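import Groth.Agent.H23Para.RS.Covered
import Groth.Agent.H13CInt.FibreDim
import Groth.Prelude.Def_Pi1
import Mathlib.AlgebraicGeometry.Morphisms.Smooth
import Mathlib.RingTheory.Etale.Basic

/-!
# Smooth over normal: parafactorial local rings
-/

set_option autoImplicit false
set_option linter.style.haveILetI false

noncomputable section

universe u

open IsLocalRing CategoryTheory AlgebraicGeometry

namespace Groth.Agent.H23Para.RS

/-- Affine space over a ring normal at the base point. -/
theorem covered_atPrime_of_normal_base {R : Type u} [CommRing R] [IsNoetherianRing R] {n : ℕ}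
    (q : Ideal (MvPolynomial (Fin n) R)) [q.IsPrime]
    (hD : IsDomain (Localization.AtPrime (q.comap MvPolynomial.C)))
    (hI : IsIntegrallyClosed (Localization.AtPrime (q.comap MvPolynomial.C)))
    (hq : ¬ q ≤ (q.comap MvPolynomial.C).map MvPolynomial.C) : Covered (Localization.AtPrime q) := by
  let p := q.comap MvPolynomial.C
  let A := Localization.AtPrime p
  haveI := hD
  haveI := hI
  letI : Algebra (MvPolynomial (Fin n) R) (MvPolynomial (Fin n) A) := MvPolynomial.algebraMvPolynomial
  haveI : IsLocalization (p.primeCompl.map MvPolynomial.C) (MvPolynomial (Fin n) A) :=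
    MvPolynomial.isLocalization p.primeCompl A
  have hdisj : Disjoint ((p.primeCompl.map MvPolynomial.C : Submonoid (MvPolynomial (Fin n) R)) :
      Set (MvPolynomial (Fin n) R)) (q : Set (MvPolynomial (Fin n) R)) := by
    rw [Set.disjoint_left]
    rintro _ ⟨a, ha, rfl⟩ h
    exact ha h
  let Q : Ideal (MvPolynomial (Fin n) A) := q.map (algebraMap (MvPolynomial (Fin n) R) (MvPolynomial (Fin n) A))
  haveI : Q.IsPrime := IsLocalization.isPrime_of_isPrime_disjoint _ _ q inferInstance hdisj
  have hQc : Q.comap (algebraMap (MvPolynomial (Fin n) R) (MvPolynomial (Fin n) A)) = q :=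
    IsLocalization.under_map_of_isPrime_disjoint _ _ inferInstance hdisj
  have e : Localization.AtPrime q ≃+* Localization.AtPrime Q := by
    have aux : ∀ (I : Ideal (MvPolynomial (Fin n) R)) [I.IsPrime], I = q →
        Nonempty (Localization.AtPrime q ≃+* Localization.AtPrime I) := fun I _ h => by
      subst h; exact ⟨RingEquiv.refl _⟩
    let T := Localization.AtPrime Q
    haveI : IsLocalization.AtPrime T (Q.comap (algebraMap (MvPolynomial (Fin n) R) (MvPolynomial (Fin n) A))) :=
      IsLocalization.isLocalization_isLocalization_atPrime_isLocalization (p.primeCompl.map MvPolynomial.C) T Q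
    exact (aux _ hQc).some.trans
      (IsLocalization.algEquiv (Q.comap (algebraMap (MvPolynomial (Fin n) R) (MvPolynomial (Fin n) A))).primeCompl
        (Localization.AtPrime (Q.comap (algebraMap (MvPolynomial (Fin n) R) (MvPolynomial (Fin n) A)))) T).toRingEquiv
  refine Covered.of_ringEquiv e (covered_mvPolynomial_atPrime Q fun h => hq fun r hr => MvPolynomial.mem_map_C_iff.mpr
    fun i => ?_)
  have hQp : Q.comap MvPolynomial.C ≤ maximalIdeal A :=
    le_maximalIdeal (Ideal.IsPrime.ne_top (Ideal.comap_isPrime _ _))
  have h2 := hQp (MvPolynomial.mem_map_C_iff.mp (h (Ideal.mem_map_of_mem (algebraMap _ (MvPolynomial (Fin n) A)) hr)) i)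
  rw [MvPolynomial.algebraMap_def, MvPolynomial.coeff_map] at h2
  exact (IsLocalization.AtPrime.to_map_mem_maximal_iff A p _).mp h2

/-- The local rings of an étale algebra over affine space over a normal ring. -/
theorem isParafactorial_atPrime_of_etale {R E : Type u} [CommRing R] [IsNoetherianRing R] [CommRing E] {n : ℕ}
    [Algebra (MvPolynomial (Fin n) R) E] [Algebra.Etale (MvPolynomial (Fin n) R) E] (P : Ideal E) [P.IsPrime]
    (hD : IsDomain (Localization.AtPrime ((P.under (MvPolynomial (Fin n) R)).comap MvPolynomial.C)))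
    (hI : IsIntegrallyClosed (Localization.AtPrime ((P.under (MvPolynomial (Fin n) R)).comap MvPolynomial.C)))
    (hdim : (2 : WithBot ℕ∞) ≤ ringKrullDim (Localization.AtPrime P))
    (hfib : ¬ maximalIdeal (Localization.AtPrime P) ≤ ((P.under (MvPolynomial (Fin n) R)).comap MvPolynomial.C).map
      ((algebraMap E (Localization.AtPrime P)).comp
        ((algebraMap (MvPolynomial (Fin n) R) E).comp MvPolynomial.C))) :
    ParaF.IsParafactorialLocalRing (Localization.AtPrime P) := by
  let q := P.under (MvPolynomial (Fin n) R)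
  haveI : P.LiesOver q := ⟨rfl⟩
  haveI : IsNoetherianRing E := Algebra.FiniteType.isNoetherianRing (MvPolynomial (Fin n) R) E
  letI := Localization.AtPrime.algebraOfLiesOver q P
  haveI : Localization.AtPrime.IsLiesOverAlgebra q P := ⟨rfl⟩
  haveI : Module.Flat (Localization.AtPrime q) (Localization.AtPrime P) := inferInstance
  haveI : Algebra.EssFiniteType (Localization.AtPrime q) (Localization.AtPrime P) :=
    .of_comp (MvPolynomial (Fin n) R) _ _
  haveI : Algebra.FormallyUnramified (MvPolynomial (Fin n) R) (Localization.AtPrime P) :=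
    Algebra.FormallyUnramified.comp _ E _
  haveI : Algebra.FormallyUnramified (Localization.AtPrime q) (Localization.AtPrime P) :=
    .of_restrictScalars (MvPolynomial (Fin n) R) _ _
  haveI : Algebra.FormallySmooth E (Localization.AtPrime P) := Algebra.FormallySmooth.of_isLocalization P.primeCompl
  haveI : Algebra.FormallySmooth (MvPolynomial (Fin n) R) (Localization.AtPrime P) :=
    Algebra.FormallySmooth.comp _ E _
  haveI : Algebra.FormallySmooth (Localization.AtPrime q) (Localization.AtPrime P) :=
    Algebra.FormallySmooth.localization_base (M := q.primeCompl)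
  haveI : IsLocalHom (algebraMap (Localization.AtPrime q) (Localization.AtPrime P)) := by
    rw [Localization.AtPrime.IsLiesOverAlgebra.algebraMap_eq]
    infer_instance
  refine isParafactorial_of_covered (covered_atPrime_of_normal_base q hD hI fun hle => hfib ?_) hdim
  rw [← Algebra.FormallyUnramified.map_maximalIdeal (R := Localization.AtPrime q) (S := Localization.AtPrime P),
    ← Localization.AtPrime.map_eq_maximalIdeal (I := q), Ideal.map_map,
    ← IsScalarTower.algebraMap_eq (MvPolynomial (Fin n) R) (Localization.AtPrime q) (Localization.AtPrime P),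
    IsScalarTower.algebraMap_eq (MvPolynomial (Fin n) R) E (Localization.AtPrime P)]
  refine le_trans (Ideal.map_mono hle) ?_
  rw [Ideal.map_map]
  exact le_of_eq (by rw [RingHom.comp_assoc])

set_option maxHeartbeats 800000 in
/-- A smooth morphism to a normal scheme has parafactorial stalks off the generic points of fibres and off
codimension one. -/
theorem isParafactorial_stalk_of_smooth {X S : Scheme.{u}} [IsLocallyNoetherian S] (hS : Pi1.IsNormalScheme S)
    (f : X ⟶ S) [Smooth f] (x : ↥X) (hx : (2 : WithBot ℕ∞) ≤ ringKrullDim (X.presheaf.stalk x))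
    (hfib : (1 : WithBot ℕ∞) ≤ ringKrullDim (CInt.fiberStalk f x)) :
    ParaF.IsParafactorialLocalRing (X.presheaf.stalk x) := by
  obtain ⟨U, hU, V, hV, hxV, hVU, hstd⟩ := Smooth.exists_isStandardSmooth f x
  obtain ⟨n, g, hgC, hg⟩ := hstd.exists_etale_mvPolynomial
  haveI : IsNoetherianRing Γ(S, U) := IsLocallyNoetherian.component_noetherian ⟨U, hU⟩
  letI : Algebra (MvPolynomial (Fin n) Γ(S, U)) Γ(X, V) := g.toAlgebra
  haveI : Algebra.Etale (MvPolynomial (Fin n) Γ(S, U)) Γ(X, V) := hg
  let P := (hV.primeIdealOf ⟨x, hxV⟩).asIdeal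
  let p := (hU.primeIdealOf ⟨f x, hVU hxV⟩).asIdeal
  letI := X.presheaf.algebra_section_stalk ⟨x, hxV⟩
  haveI : IsLocalization.AtPrime (X.presheaf.stalk x) P := hV.isLocalization_stalk ⟨x, hxV⟩
  letI := S.presheaf.algebra_section_stalk ⟨f x, hVU hxV⟩
  haveI : IsLocalization.AtPrime (S.presheaf.stalk (f x)) p := hU.isLocalization_stalk ⟨f x, hVU hxV⟩
  have hgC' : (algebraMap (MvPolynomial (Fin n) Γ(S, U)) Γ(X, V)).comp MvPolynomial.C = (f.appLE U V hVU).hom := hgC
  have hp : (P.under (MvPolynomial (Fin n) Γ(S, U))).comap MvPolynomial.C = p := by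
    rw [Ideal.under_def, Ideal.comap_comap, hgC']
    exact congr($(IsAffineOpen.comap_primeIdealOf_appLE U hU V hV hVU hxV).1)
  let eX := (IsLocalization.algEquiv P.primeCompl (X.presheaf.stalk x) (Localization.AtPrime P)).toRingEquiv
  have aux : ∀ (I : Ideal Γ(S, U)) [I.IsPrime], I = p →
      Nonempty (S.presheaf.stalk (f x) ≃+* Localization.AtPrime I) := fun I _ h => by
    subst h; exact ⟨(IsLocalization.algEquiv p.primeCompl (S.presheaf.stalk (f x)) (Localization.AtPrime p)).toRingEquiv⟩
  obtain ⟨eS⟩ := aux _ hp
  haveI := (hS (f x)).1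
  haveI := (hS (f x)).2
  haveI : IsLocallyNoetherian X := LocallyOfFiniteType.isLocallyNoetherian f
  refine Samuel.isParafactorial_of_ringEquiv eX (isParafactorial_atPrime_of_etale P
    (eS.symm.toMulEquiv.isDomain _) (IsIntegrallyClosed.of_equiv eS) (hx.trans (ringKrullDim_eq_of_ringEquiv eX).le) ?_)
  intro hle
  let B := X.presheaf.stalk x
  have hms : maximalIdeal (S.presheaf.stalk (f x)) = p.map (algebraMap Γ(S, U) (S.presheaf.stalk (f x))) :=
    (IsLocalization.AtPrime.map_eq_maximalIdeal p (S.presheaf.stalk (f x))).symm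
  have hsq : (f.stalkMap x).hom.comp (algebraMap Γ(S, U) (S.presheaf.stalk (f x))) =
      (algebraMap Γ(X, V) B).comp (f.appLE U V hVU).hom := by
    ext a
    simp only [RingHom.algebraMap_toAlgebra, RingHom.coe_comp, Function.comp_apply, Scheme.Hom.germ_stalkMap_apply,
      Scheme.Hom.appLE, homOfLE_leOfHom, CommRingCat.hom_comp, X.presheaf.germ_res_apply]
  have hcomp : (eX.toRingHom.comp ((algebraMap Γ(X, V) B).comp (f.appLE U V hVU).hom)) =
      (algebraMap Γ(X, V) (Localization.AtPrime P)).comp (f.appLE U V hVU).hom := by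
    rw [← RingHom.comp_assoc]
    congr 1
    ext a
    exact (IsLocalization.algEquiv P.primeCompl (X.presheaf.stalk x) (Localization.AtPrime P)).commutes a
  have hmap : ((maximalIdeal (S.presheaf.stalk (f x))).map (f.stalkMap x).hom) = maximalIdeal B := by
    refine le_antisymm (((local_hom_TFAE (f.stalkMap x).hom).out 0 2).mp
      (inferInstance : IsLocalHom (f.stalkMap x).hom)) ?_
    intro b hb
    have h1 : eX b ∈ ((maximalIdeal (S.presheaf.stalk (f x))).map (f.stalkMap x).hom).map eX.toRingHom := by
      rw [hms, Ideal.map_map, Ideal.map_map, RingHom.comp_assoc, hsq, hcomp, ← hp]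
      have h2 := hle (show eX b ∈ maximalIdeal (Localization.AtPrime P) by
        rw [← IsLocalRing.map_maximalIdeal_of_surjective eX.toRingHom eX.surjective]
        exact Ideal.mem_map_of_mem _ hb)
      rw [← hgC']
      exact h2
    obtain ⟨b', hb', he⟩ := (Ideal.mem_map_iff_of_surjective _ eX.surjective).mp h1
    rwa [← eX.injective he]
  rw [← ringKrullDim_eq_of_ringEquiv (H13CInt.fiberStalkEquiv f x)] at hfib
  rw [show (maximalIdeal (S.presheaf.stalk (f x))).map (f.stalkMap x).hom = maximalIdeal B from hmap,
    ringKrullDim_eq_zero_of_isField ((Ideal.Quotient.maximal_ideal_iff_isField_quotient _).mp inferInstance)] at hfib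
  exact absurd hfib (by norm_num)

end Groth.Agent.H23Para.RS
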