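import Groth.Agent.H23Para.RS.Extension
import Groth.Agent.H02CA.CompletionFlat
import Mathlib.RingTheory.Smooth.AdicCompletion
import Mathlib.FieldTheory.PrimitiveElement

/-!
# Étale ascent of Ramanujam–Samuel
-/

set_option autoImplicit false
set_option linter.style.haveILetI false

noncomputable section

universe u

open IsLocalRing Polynomial

namespace Groth.Agent.H23Para.RS

/-- Power series over a finite free algebra are flat over power series over the base. -/
theorem flat_map_powerSeries {A B : Type u} [CommRing A] [CommRing B] [Algebra A B] [Module.Finite A B]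
    [Module.Free A B] : (PowerSeries.map (algebraMap A B)).Flat := by
  classical
  letI : Algebra (PowerSeries A) (PowerSeries B) := (PowerSeries.map (algebraMap A B)).toAlgebra
  let b := Module.Free.chooseBasis A B
  let ι := Module.Free.ChooseBasisIndex A B
  let F : (ι → PowerSeries A) →ₗ[PowerSeries A] PowerSeries B :=
    Fintype.linearCombination (PowerSeries A) fun j => PowerSeries.C (b j)
  have hcoeff : ∀ (f : ι → PowerSeries A) (n : ℕ),
      PowerSeries.coeff n (F f) = ∑ j, PowerSeries.coeff n (f j) • b j := by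
    intro f n
    simp only [F, Fintype.linearCombination_apply, map_sum]
    refine Finset.sum_congr rfl fun j _ => ?_
    show PowerSeries.coeff n (PowerSeries.map (algebraMap A B) (f j) * PowerSeries.C (b j)) = _
    rw [PowerSeries.coeff_mul_C, PowerSeries.coeff_map, Algebra.smul_def]
  have hF : Function.Bijective F := by
    refine ⟨(injective_iff_map_eq_zero F).mpr fun f hf => funext fun j => PowerSeries.ext fun n => ?_, fun x => ?_⟩
    · have h := congrArg (b.repr · j) ((hcoeff f n).symm.trans (by rw [hf, map_zero]))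
      simpa [b.repr_sum_self, Finsupp.single_apply] using h
    · refine ⟨fun j => PowerSeries.mk fun n => b.repr (PowerSeries.coeff n x) j, PowerSeries.ext fun n => ?_⟩
      rw [hcoeff]
      simp only [PowerSeries.coeff_mk]
      exact b.sum_repr _
  show Module.Flat (PowerSeries A) (PowerSeries B)
  exact Module.Flat.of_linearEquiv (LinearEquiv.ofBijective F hF).symm

set_option maxHeartbeats 1000000 in
/-- Ascent along a formally smooth local map with finite separable residue extension and the same maximal ideal,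
from a ring covered by power series over a complete ring of depth two. -/
theorem isParafactorial_of_formallySmooth {C O : Type u} [CommRing C] [IsLocalRing C] [IsNoetherianRing C]
    [CommRing O] [IsLocalRing O] [IsNoetherianRing O] [Algebra C O] [IsLocalHom (algebraMap C O)] [Module.Flat C O]
    [Algebra.FormallySmooth C O] (hm : (maximalIdeal C).map (algebraMap C O) = maximalIdeal O)
    [Module.Finite (ResidueField C) (ResidueField O)] [Algebra.IsSeparable (ResidueField C) (ResidueField O)]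
    {A₂ : Type u} [CommRing A₂] [IsLocalRing A₂] [IsNoetherianRing A₂] [IsAdicComplete (maximalIdeal A₂) A₂]
    (hd : (2 : ℕ∞) ≤ LocCoh.depth A₂ A₂) (Φ : C →+* PowerSeries A₂) [IsLocalHom Φ] (hΦ : Φ.Flat)
    (hres : ∀ b, ∃ c, b - Φ c ∈ maximalIdeal (PowerSeries A₂))
    (hdim : ringKrullDim (PowerSeries A₂ ⧸ (maximalIdeal C).map Φ) = 0) :
    ParaF.IsParafactorialLocalRing O := by
  -- the residue field of `A₂`
  let κ : C →+* ResidueField A₂ := (residue A₂).comp (PowerSeries.constantCoeff.comp Φ)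
  have hmax : ∀ z : PowerSeries A₂, z ∈ maximalIdeal (PowerSeries A₂) ↔ residue A₂ (PowerSeries.constantCoeff z) = 0 := by
    intro z
    rw [residue_eq_zero_iff, IsLocalRing.mem_maximalIdeal, IsLocalRing.mem_maximalIdeal, mem_nonunits_iff,
      mem_nonunits_iff, PowerSeries.isUnit_iff_constantCoeff]
  have hΦle : (maximalIdeal C).map Φ ≤ maximalIdeal (PowerSeries A₂) := ((local_hom_TFAE Φ).out 0 2).mp ‹IsLocalHom Φ›
  have hκ0 : ∀ c ∈ maximalIdeal C, κ c = 0 := fun c hc => (hmax _).mp (hΦle (Ideal.mem_map_of_mem Φ hc))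
  let e₂ : ResidueField C →+* ResidueField A₂ := Ideal.Quotient.lift (maximalIdeal C) κ hκ0
  have he₂ : Function.Surjective e₂ := by
    intro x
    obtain ⟨a, rfl⟩ := residue_surjective x
    obtain ⟨c, hc⟩ := hres (PowerSeries.C a)
    refine ⟨residue C c, ?_⟩
    have h := (hmax _).mp hc
    rw [map_sub, map_sub, PowerSeries.constantCoeff_C, sub_eq_zero] at h
    exact h.symm
  -- a primitive element
  obtain ⟨α, hα⟩ := Field.exists_primitive_element (ResidueField C) (ResidueField O)
  have hint : IsIntegral (ResidueField C) α := IsIntegral.of_finite _ _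
  let g₀ := minpoly (ResidueField C) α
  haveI : Fact (Irreducible g₀) := ⟨minpoly.irreducible hint⟩
  obtain ⟨g, hgπ, -, hgm⟩ := lifts_and_degree_eq_and_monic
    (show g₀.map e₂ ∈ Polynomial.lifts (residue A₂) from (mem_lifts _).mpr (Polynomial.map_surjective _ residue_surjective _))
    ((minpoly.monic hint).map e₂)
  let A₃ := AdjoinRoot g
  haveI : Module.Finite A₂ A₃ := hgm.finite_adjoinRoot
  haveI : Module.Free A₂ A₃ := hgm.free_adjoinRoot
  haveI : IsNoetherianRing A₃ := IsNoetherianRing.of_finite A₂ A₃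
  let M₃ : Ideal A₃ := (maximalIdeal A₂).map (algebraMap A₂ A₃)
  haveI : Nontrivial A₃ := by
    by_contra hnt
    rw [not_nontrivial_iff_subsingleton] at hnt
    have hu : IsUnit g := isUnit_of_dvd_one (AdjoinRoot.mk_eq_zero.mp (Subsingleton.elim (α := A₃) _ _))
    have h1 := congrArg Polynomial.natDegree hgπ
    rw [hgm.eq_one_of_isUnit hu, Polynomial.map_one, natDegree_one, (minpoly.monic hint).natDegree_map e₂] at h1
    exact (minpoly.natDegree_pos hint).ne h1
  have hM₃ne : M₃ ≠ ⊤ := fun h => by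
    have h' : (maximalIdeal A₂) • (⊤ : Submodule A₂ A₃) = ⊤ := by
      rw [Ideal.smul_top_eq_map]; simp [M₃] at h; rw [h]; rfl
    exact H4Depth.maximalIdeal_smul_top_ne_top (R := A₂) (M := A₃) h'
  haveI : Nontrivial (A₃ ⧸ M₃) := Ideal.Quotient.nontrivial_iff.mpr hM₃ne
  let ι : ResidueField A₂ →+* A₃ ⧸ M₃ := Ideal.Quotient.lift (maximalIdeal A₂)
    ((Ideal.Quotient.mk M₃).comp (algebraMap A₂ A₃)) fun a ha =>
      Ideal.Quotient.eq_zero_iff_mem.mpr (Ideal.mem_map_of_mem _ ha)
  let θ : AdjoinRoot g₀ →+* A₃ ⧸ M₃ := AdjoinRoot.lift (ι.comp e₂) (Ideal.Quotient.mk M₃ (AdjoinRoot.root g)) (by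
    rw [← Polynomial.eval₂_map, ← hgπ, Polynomial.eval₂_map]
    show g.eval₂ ((Ideal.Quotient.mk M₃).comp (algebraMap A₂ A₃)) _ = 0
    rw [← Polynomial.hom_eval₂, AdjoinRoot.algebraMap_eq, AdjoinRoot.eval₂_root, map_zero])
  have hθ : Function.Surjective θ := by
    intro z
    obtain ⟨z, rfl⟩ := Ideal.Quotient.mk_surjective z
    obtain ⟨p, rfl⟩ := AdjoinRoot.mk_surjective z
    obtain ⟨q, hq⟩ := Polynomial.map_surjective e₂ he₂ (p.map (residue A₂))
    refine ⟨AdjoinRoot.mk g₀ q, ?_⟩
    rw [AdjoinRoot.lift_mk, ← Polynomial.eval₂_map, hq, Polynomial.eval₂_map]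
    show p.eval₂ ((Ideal.Quotient.mk M₃).comp (algebraMap A₂ A₃)) _ = _
    rw [← Polynomial.hom_eval₂, ← AdjoinRoot.aeval_eq, Polynomial.aeval_def]
  have hM₃ : M₃.IsMaximal := Ideal.Quotient.maximal_of_isField _ (MulEquiv.isField (Field.toIsField (AdjoinRoot g₀))
    (RingEquiv.ofBijective θ ⟨θ.injective, hθ⟩).symm.toMulEquiv)
  haveI hA₃ : IsLocalRing A₃ := IsLocalRing.of_unique_max_ideal ⟨M₃, hM₃, fun N hN =>
    (hM₃.eq_of_le hN.ne_top (Ideal.map_le_iff_le_comap.mpr
      (le_of_eq (IsLocalRing.eq_maximalIdeal (Ideal.isMaximal_comap_of_isIntegral_of_isMaximal N)).symm))).symm⟩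
  have hm₃ : maximalIdeal A₃ = M₃ := (IsLocalRing.eq_maximalIdeal hM₃).symm
  haveI : IsAdicComplete (maximalIdeal A₃) A₃ := by
    rw [hm₃]
    exact (IsAdicComplete.map_algebraMap_iff (maximalIdeal A₂) A₃ (S := A₃)).mpr (H24Adic.isAdicComplete_of_finite _)
  haveI : IsLocalHom (algebraMap A₂ A₃) := ((local_hom_TFAE _).out 0 2).mpr hm₃.ge
  have hd₃ : (2 : ℕ∞) ≤ LocCoh.depth A₃ A₃ := by
    rw [H8Props.FlatDepth.depth_eq_add (A := A₂) (B := A₃)]
    exact le_add_right hd
  haveI := isAdicComplete_powerSeries A₃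
  -- the cover of `O`
  let B₃ := PowerSeries A₃
  let ψ : C →+* B₃ := (PowerSeries.map (algebraMap A₂ A₃)).comp Φ
  letI : Algebra C B₃ := ψ.toAlgebra
  let m₃ := maximalIdeal B₃
  have hmem₃ : ∀ z : B₃, z ∈ m₃ ↔ PowerSeries.constantCoeff z ∈ M₃ := fun z => by
    rw [← hm₃, IsLocalRing.mem_maximalIdeal, IsLocalRing.mem_maximalIdeal, mem_nonunits_iff, mem_nonunits_iff,
      PowerSeries.isUnit_iff_constantCoeff]
  let τ : A₃ ⧸ M₃ →+* B₃ ⧸ m₃ := Ideal.Quotient.lift M₃ ((Ideal.Quotient.mk m₃).comp PowerSeries.C) fun a ha =>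
    Ideal.Quotient.eq_zero_iff_mem.mpr ((hmem₃ _).mpr (by rwa [PowerSeries.constantCoeff_C]))
  let ε : AdjoinRoot g₀ →ₐ[ResidueField C] ResidueField O :=
    AdjoinRoot.liftAlgHom g₀ (Algebra.ofId (ResidueField C) (ResidueField O)) α (minpoly.aeval (ResidueField C) α)
  have hε : Function.Bijective ε := by
    refine ⟨ε.toRingHom.injective, ?_⟩
    have htop : Algebra.adjoin (ResidueField C) {α} = ⊤ := by
      rw [← IntermediateField.adjoin_simple_toSubalgebra_of_isAlgebraic hint.isAlgebraic, hα,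
        IntermediateField.top_toSubalgebra]
    intro x
    obtain ⟨p, rfl⟩ := (Algebra.adjoin_singleton_eq_range_aeval (ResidueField C) α ▸ htop.ge (Algebra.mem_top (x := x)) :
      x ∈ (Polynomial.aeval α).range)
    exact ⟨AdjoinRoot.mk g₀ p, by simp [ε, Polynomial.aeval_def]⟩
  let eε := AlgEquiv.ofBijective ε hε
  have hcommB : ∀ c : C, τ (θ (AdjoinRoot.of g₀ (residue C c))) = Ideal.Quotient.mk m₃ (ψ c) := by
    intro c
    rw [show θ (AdjoinRoot.of g₀ (residue C c)) = ι (e₂ (residue C c)) from AdjoinRoot.lift_of _]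
    show Ideal.Quotient.mk m₃ (PowerSeries.C (algebraMap A₂ A₃ (PowerSeries.constantCoeff (Φ c)))) = _
    refine Ideal.Quotient.eq.mpr ((hmem₃ _).mpr ?_)
    rw [map_sub, PowerSeries.constantCoeff_C]
    rw [← PowerSeries.coeff_zero_eq_constantCoeff_apply (φ := ψ c)]
    simp [ψ, PowerSeries.coeff_map]
  let f₀ : O →+* B₃ ⧸ m₃ := τ.comp (θ.comp ((eε.symm.toRingEquiv.toRingHom).comp (residue O)))
  let f : O →ₐ[C] B₃ ⧸ m₃ :=
    { f₀ with
      commutes' := fun c => by
        show τ (θ (eε.symm (residue O (algebraMap C O c)))) = Ideal.Quotient.mk m₃ (ψ c)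
        rw [← hcommB, show residue O (algebraMap C O c) = algebraMap (ResidueField C) (ResidueField O) (residue C c) from rfl,
          AlgEquiv.commutes]
        rfl }
  obtain ⟨G, hG⟩ := Algebra.FormallySmooth.exists_mkₐ_comp_eq_of_isAdicComplete f
  let γ : O →+* B₃ := G.toRingHom
  haveI hγloc : IsLocalHom γ := ⟨fun o ho => by
    by_contra hno
    have h1 : f o = 0 := by
      show τ (θ (eε.symm (residue O o))) = 0
      rw [(residue_eq_zero_iff o).mpr ((IsLocalRing.mem_maximalIdeal o).mpr hno), map_zero, map_zero, map_zero]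
    rw [← hG] at h1
    exact (IsLocalRing.mem_maximalIdeal _).mp (Ideal.Quotient.eq_zero_iff_mem.mp h1) ho⟩
  haveI : Module.Flat C B₃ := RingHom.Flat.comp hΦ flat_map_powerSeries
  letI : Algebra O B₃ := γ.toAlgebra
  haveI : IsScalarTower C O B₃ := IsScalarTower.of_algebraMap_eq fun c => (G.commutes c).symm
  haveI : IsLocalHom (algebraMap O B₃) := hγloc
  haveI : Module.Flat O B₃ := H02CA.flat_of_map_maximalIdeal C O B₃ hm
  refine Groth.Agent.S2865.result O B₃ ?_ (isParafactorial_powerSeries hd₃)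
  rw [← hm, Ideal.map_map, ← IsScalarTower.algebraMap_eq]
  -- the closed fibre is zero dimensional
  let I := (maximalIdeal C).map (algebraMap C B₃)
  have hI : I = ((maximalIdeal C).map Φ).map (PowerSeries.map (algebraMap A₂ A₃)) := (Ideal.map_map _ _).symm
  have hIle : I ≤ m₃ := by
    refine Ideal.map_le_iff_le_comap.mpr fun c hc => ?_
    rw [Ideal.mem_comap, ← Ideal.Quotient.eq_zero_iff_mem]
    show Ideal.Quotient.mk m₃ (ψ c) = 0
    rw [← hcommB, (residue_eq_zero_iff c).mpr hc, map_zero, map_zero, map_zero]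
  haveI : Nontrivial (B₃ ⧸ I) := Ideal.Quotient.nontrivial_iff.mpr
    (ne_top_of_le_ne_top (maximalIdeal.isMaximal B₃).ne_top hIle)
  haveI : Ring.KrullDimLE 0 (B₃ ⧸ I) := Ring.krullDimLE_zero_iff.mpr fun P hP => by
    let P' := P.comap (Ideal.Quotient.mk I)
    have hIP : I ≤ P' := fun x hx => by
      show Ideal.Quotient.mk I x ∈ P
      rw [Ideal.Quotient.eq_zero_iff_mem.mpr hx]
      exact zero_mem P
    let P₂ := P'.comap (PowerSeries.map (algebraMap A₂ A₃))
    have hP₂ : maximalIdeal (PowerSeries A₂) ≤ P₂ := by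
      haveI : Ring.KrullDimLE 0 (PowerSeries A₂ ⧸ (maximalIdeal C).map Φ) := Ring.krullDimLE_iff.mpr hdim.le
      have hle : (maximalIdeal C).map Φ ≤ P₂ := Ideal.map_le_iff_le_comap.mp (hI.ge.trans hIP)
      haveI : P₂.IsPrime := Ideal.comap_isPrime _ _
      haveI : (P₂.map (Ideal.Quotient.mk ((maximalIdeal C).map Φ))).IsPrime :=
        Ideal.map_isPrime_of_surjective Ideal.Quotient.mk_surjective (by rwa [Ideal.mk_ker])
      have h2 := Ideal.comap_isMaximal_of_surjective _ Ideal.Quotient.mk_surjective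
        (H := Ideal.isMaximal_of_isPrime (P₂.map (Ideal.Quotient.mk ((maximalIdeal C).map Φ))))
      rw [Ideal.comap_map_of_surjective _ Ideal.Quotient.mk_surjective, ← RingHom.ker_eq_comap_bot, Ideal.mk_ker,
        sup_eq_left.mpr hle] at h2
      exact (IsLocalRing.eq_maximalIdeal h2).ge
    have hX : (PowerSeries.X : B₃) ∈ P' := by
      have h : (PowerSeries.X : PowerSeries A₂) ∈ P₂ := hP₂ (by
        rw [IsLocalRing.mem_maximalIdeal, mem_nonunits_iff, PowerSeries.isUnit_iff_constantCoeff,
          PowerSeries.constantCoeff_X]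
        exact not_isUnit_zero)
      simpa [P₂] using h
    have hmP : M₃.map PowerSeries.C ≤ P' := by
      rw [Ideal.map_map]
      refine Ideal.map_le_iff_le_comap.mpr fun a ha => ?_
      have h : PowerSeries.C a ∈ P₂ := hP₂ (by
        rw [IsLocalRing.mem_maximalIdeal, mem_nonunits_iff, PowerSeries.isUnit_iff_constantCoeff,
          PowerSeries.constantCoeff_C]
        exact (IsLocalRing.mem_maximalIdeal a).mp ha)
      simpa [P₂] using h
    have hP' : P' = m₃ := by
      refine le_antisymm (le_maximalIdeal (hP.comap _).ne_top) fun z hz => ?_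
      rw [PowerSeries.eq_X_mul_shift_add_const z]
      exact add_mem (P'.mul_mem_right _ hX) (hmP (Ideal.mem_map_of_mem _ ((hmem₃ z).mp hz)))
    haveI : (P.comap (Ideal.Quotient.mk I)).IsMaximal := by
      show P'.IsMaximal
      rw [hP']; infer_instance
    rw [← Ideal.map_comap_of_surjective (Ideal.Quotient.mk I) Ideal.Quotient.mk_surjective P]
    exact Ideal.IsMaximal.map_of_surjective_of_ker_le Ideal.Quotient.mk_surjective (by rw [Ideal.mk_ker]; exact hIP)
  exact le_antisymm (Ring.krullDimLE_iff.mp inferInstance) ringKrullDim_nonneg_of_nontrivial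

end Groth.Agent.H23Para.RS
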