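import Groth.Agent.H23Para.RS.Normal
import Groth.Agent.H23Para.RS.Etale
import Groth.Agent.H19Grp.RegularSmooth
import Groth.Agent.H7Flat.SpecializationDense
import Mathlib.RingTheory.Unramified.LocalRing
import Mathlib.RingTheory.Polynomial.UniqueFactorization

/-!
# Local rings étale over affine space over a normal ring
-/

set_option autoImplicit false
set_option linter.style.haveILetI false

noncomputable section

universe u

open IsLocalRing Polynomial

namespace Groth.Agent.H23Para.RS

/-- Regular, or covered by power series over a complete ring of depth two with the same residue field. -/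
def Covered (C : Type u) [CommRing C] [IsLocalRing C] : Prop :=
  IsRegularLocalRing C ∨
    ∃ (A₂ : Type u) (_ : CommRing A₂) (_ : IsLocalRing A₂) (_ : IsNoetherianRing A₂)
      (_ : IsAdicComplete (maximalIdeal A₂) A₂) (Φ : C →+* PowerSeries A₂),
      (2 : ℕ∞) ≤ LocCoh.depth A₂ A₂ ∧ IsLocalHom Φ ∧ Φ.Flat ∧
      (∀ b : PowerSeries A₂, ∃ c, b - Φ c ∈ maximalIdeal (PowerSeries A₂)) ∧
      ringKrullDim (PowerSeries A₂ ⧸ (maximalIdeal C).map Φ) = 0

theorem Covered.of_ringEquiv {C D : Type u} [CommRing C] [IsLocalRing C] [CommRing D] [IsLocalRing D]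
    (e : C ≃+* D) (h : Covered D) : Covered C := by
  rcases h with h | ⟨A₂, _, _, _, _, Φ, hd, _, hflat, hres, hdim⟩
  · exact Or.inl (IsRegularLocalRing.of_ringEquiv e.symm)
  · haveI : IsLocalHom e.toRingHom := ⟨fun a ha => by simpa using ha⟩
    refine Or.inr ⟨A₂, inferInstance, inferInstance, inferInstance, inferInstance, Φ.comp e.toRingHom, hd,
      RingHom.isLocalHom_comp _ _, RingHom.Flat.comp (RingHom.Flat.of_bijective e.bijective) hflat, fun b => ?_, ?_⟩
    · obtain ⟨c, hc⟩ := hres b
      exact ⟨e.symm c, by simpa using hc⟩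
    · rwa [← Ideal.map_map, IsLocalRing.map_maximalIdeal_of_surjective e.toRingHom e.surjective]

/-- `A[X]` at a point of the closed fibre which is not generic, `A` normal local. -/
theorem covered_atPrime_of_normal {A : Type u} [CommRing A] [IsLocalRing A] [IsNoetherianRing A]
    [IsDomain A] [IsIntegrallyClosed A] (Q : Ideal A[X]) [Q.IsPrime] (hQm : Q.comap C = maximalIdeal A)
    (hQ : ¬ Q ≤ (maximalIdeal A).map C) : Covered (Localization.AtPrime Q) := by
  by_cases h : ringKrullDim A ≤ 1
  · haveI : IsRegularLocalRing A := H1CAlg.isRegularLocalRing_of_isIntegrallyClosed h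
    haveI : IsRegularRing A := H05EGA4.isRegularRing_of_isRegularLocalRing A
    exact Or.inl (IsRegularRing.isRegularLocalRing_localization _)
  · refine Or.inr (exists_cover (H1CAlg.depth_ge_two_of_isIntegrallyClosed ?_) Q hQm hQ)
    obtain ⟨d, hd⟩ := Samuel.exists_ringKrullDim_eq_nat A
    rw [hd] at h ⊢
    exact_mod_cast (show 2 ≤ d by
      by_contra h2
      exact h (by exact_mod_cast (show d ≤ 1 by omega)))

/-- `A[X]` at a prime which is not vertical, `A` a normal domain. -/
theorem covered_polynomial_atPrime {A : Type u} [CommRing A] [IsNoetherianRing A]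
    [IsDomain A] [IsIntegrallyClosed A] (q₀ : Ideal A[X]) [q₀.IsPrime] (hq : ¬ q₀ ≤ (q₀.comap C).map C) :
    Covered (Localization.AtPrime q₀) := by
  let p := q₀.comap C
  let Ap := Localization.AtPrime p
  haveI : IsDomain Ap := IsLocalization.isDomain_localization p.primeCompl_le_nonZeroDivisors
  haveI : IsIntegrallyClosed Ap := isIntegrallyClosed_of_isLocalization Ap p.primeCompl p.primeCompl_le_nonZeroDivisors
  letI : Algebra A[X] Ap[X] := (Polynomial.mapRingHom (algebraMap A Ap)).toAlgebra
  haveI : IsLocalization (p.primeCompl.map C) Ap[X] := Polynomial.isLocalization p.primeCompl Ap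
  have hdisj : Disjoint ((p.primeCompl.map C : Submonoid A[X]) : Set A[X]) (q₀ : Set A[X]) := by
    rw [Set.disjoint_left]
    rintro _ ⟨a, ha, rfl⟩ h
    exact ha h
  let Q : Ideal Ap[X] := q₀.map (algebraMap A[X] Ap[X])
  haveI : Q.IsPrime := IsLocalization.isPrime_of_isPrime_disjoint _ _ q₀ inferInstance hdisj
  have hQc : Q.comap (algebraMap A[X] Ap[X]) = q₀ := IsLocalization.under_map_of_isPrime_disjoint _ _ inferInstance hdisj
  have e : Localization.AtPrime q₀ ≃+* Localization.AtPrime Q := by
    have aux : ∀ (I : Ideal A[X]) [I.IsPrime], I = q₀ →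
        Nonempty (Localization.AtPrime q₀ ≃+* Localization.AtPrime I) := fun I _ h => by
      subst h; exact ⟨RingEquiv.refl _⟩
    let T := Localization.AtPrime Q
    haveI : IsLocalization.AtPrime T (Q.comap (algebraMap A[X] Ap[X])) :=
      IsLocalization.isLocalization_isLocalization_atPrime_isLocalization (p.primeCompl.map C) T Q
    exact (aux _ hQc).some.trans (IsLocalization.algEquiv (Q.comap (algebraMap A[X] Ap[X])).primeCompl
      (Localization.AtPrime (Q.comap (algebraMap A[X] Ap[X]))) T).toRingEquiv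
  refine Covered.of_ringEquiv e (covered_atPrime_of_normal Q ?_ fun h => hq fun r hr => Ideal.mem_map_C_iff.mpr fun i => ?_)
  · refine le_antisymm (le_maximalIdeal (Ideal.IsPrime.ne_top (Ideal.comap_isPrime _ _))) ?_
    rw [← Localization.AtPrime.map_eq_maximalIdeal (I := p)]
    refine Ideal.map_le_iff_le_comap.mpr fun a ha => ?_
    show C (algebraMap A Ap a) ∈ Q
    rw [← Polynomial.map_C]
    exact Ideal.mem_map_of_mem (algebraMap A[X] Ap[X]) (ha : C a ∈ q₀)
  · have h2 := Ideal.mem_map_C_iff.mp (h (Ideal.mem_map_of_mem (algebraMap A[X] Ap[X]) hr)) i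
    rw [show algebraMap A[X] Ap[X] r = r.map (algebraMap A Ap) from rfl, Polynomial.coeff_map] at h2
    exact (IsLocalization.AtPrime.to_map_mem_maximal_iff Ap p _).mp h2

/-- The slice of `g` in degree `d 0` of the first variable. -/
theorem slice_spec {A : Type u} [CommRing A] {m : ℕ} (g : MvPolynomial (Fin (m + 1)) A) (d : Fin (m + 1) →₀ ℕ)
    (hd : d 0 ≠ 0) (hz : g.coeff d ≠ 0) :
    let c₀ := (MvPolynomial.finSuccEquiv A m).symm (C (((MvPolynomial.finSuccEquiv A m) g).coeff (d 0)))
    c₀.totalDegree < g.totalDegree ∧ c₀.coeff (Finsupp.cons 0 d.tail) = g.coeff d := by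
  intro c₀
  let c := ((MvPolynomial.finSuccEquiv A m) g).coeff (d 0)
  have hc : (MvPolynomial.finSuccEquiv A m) c₀ = C c := AlgEquiv.apply_symm_apply _ _
  have hcd : c.coeff d.tail = g.coeff d := by
    rw [show c = ((MvPolynomial.finSuccEquiv A m) g).coeff (d 0) from rfl, MvPolynomial.finSuccEquiv_coeff_coeff,
      Finsupp.cons_tail]
  have hc₀ : ∀ u : Fin (m + 1) →₀ ℕ, c₀.coeff u = ((C c : (MvPolynomial (Fin m) A)[X]).coeff (u 0)).coeff u.tail := by
    intro u
    rw [← hc, MvPolynomial.finSuccEquiv_coeff_coeff, Finsupp.cons_tail]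
  have hne : ((MvPolynomial.finSuccEquiv A m) g).coeff (d 0) ≠ 0 := fun h => hz (by
    rw [← hcd, show c = 0 from h, MvPolynomial.coeff_zero])
  refine ⟨?_, by rw [hc₀, Finsupp.cons_zero, Finsupp.tail_cons, coeff_C_zero, hcd]⟩
  have hle : c₀.totalDegree ≤ c.totalDegree := by
    refine Finset.sup_le fun u hu => ?_
    rw [MvPolynomial.mem_support_iff, hc₀] at hu
    have hu0 : u 0 = 0 := by
      by_contra h
      rw [coeff_C, if_neg h, MvPolynomial.coeff_zero] at hu
      exact hu rfl
    rw [hu0, coeff_C_zero] at hu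
    refine le_trans (le_of_eq ?_) (MvPolynomial.le_totalDegree (MvPolynomial.mem_support_iff.mpr hu))
    rw [Finsupp.sum_fintype _ _ (fun _ => rfl), Finsupp.sum_fintype _ _ (fun _ => rfl), Fin.sum_univ_succ, hu0, zero_add]
    exact Finset.sum_congr rfl fun i _ => (Finsupp.tail_apply i u).symm
  have := MvPolynomial.totalDegree_coeff_finSuccEquiv_add_le g (d 0) hne
  have h0 : c.totalDegree + d 0 ≤ g.totalDegree := this
  omega

/-- A prime of a polynomial ring which is not vertical is not vertical in some variable. -/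
theorem exists_variable_not_vertical {A : Type u} [CommRing A] {n : ℕ} (q : Ideal (MvPolynomial (Fin n) A))
    (hq : ¬ q ≤ (q.comap MvPolynomial.C).map MvPolynomial.C) :
    ∃ (m : ℕ) (e : MvPolynomial (Fin n) A ≃ₐ[A] (MvPolynomial (Fin m) A)[X]),
      ¬ q.comap e.symm.toRingEquiv ≤ ((q.comap e.symm.toRingEquiv).comap C).map C := by
  classical
  by_contra hcon
  push Not at hcon
  refine hq fun g hg => ?_
  suffices h : ∀ (D : ℕ) (g : MvPolynomial (Fin n) A), g.totalDegree ≤ D → g ∈ q →
      g ∈ (q.comap MvPolynomial.C).map MvPolynomial.C from h _ g le_rfl hg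
  intro D
  induction D using Nat.strong_induction_on with
  | h D ih =>
    intro g hgD hgq
    have hpos : ∀ d : Fin n →₀ ℕ, d ≠ 0 → g.coeff d ∈ q.comap MvPolynomial.C := by
      intro d hd
      obtain ⟨i, hi⟩ := Finsupp.ne_iff.mp hd
      rw [Finsupp.zero_apply] at hi
      obtain ⟨m, rfl⟩ : ∃ m, n = m + 1 := ⟨n - 1, by have := i.2; omega⟩
      by_cases hz : g.coeff d = 0
      · rw [hz]; exact zero_mem _
      let σ : Fin (m + 1) ≃ Fin (m + 1) := Equiv.swap 0 i
      let r := MvPolynomial.renameEquiv A σ
      let e := r.trans (MvPolynomial.finSuccEquiv A m)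
      let d' := Finsupp.mapDomain σ d
      have hσd : (r g).coeff d' = g.coeff d := MvPolynomial.coeff_rename_mapDomain _ σ.injective g d
      have hk : d' 0 ≠ 0 := by
        show Finsupp.mapDomain σ d 0 ≠ 0
        rw [show (0 : Fin (m + 1)) = σ i by simp [σ], Finsupp.mapDomain_apply σ.injective]
        exact hi
      obtain ⟨hlt, hcoeff⟩ := slice_spec (r g) d' hk (hσd.symm ▸ hz)
      have hgq' : e g ∈ q.comap e.symm.toRingEquiv := by
        show e.symm (e g) ∈ q
        rwa [AlgEquiv.symm_apply_apply]
      have hc : e.symm (C ((e g).coeff (d' 0))) ∈ q := Ideal.mem_map_C_iff.mp (hcon m e hgq') (d' 0)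
      have hdeg : (e.symm (C ((e g).coeff (d' 0)))).totalDegree < D := by
        refine lt_of_lt_of_le (lt_of_le_of_lt (MvPolynomial.totalDegree_rename_le σ.symm _) hlt) ?_
        exact (MvPolynomial.totalDegree_rename_le σ g).trans hgD
      have h := MvPolynomial.mem_map_C_iff.mp (ih _ hdeg _ le_rfl hc)
        (Finsupp.mapDomain σ.symm (Finsupp.cons 0 d'.tail))
      rw [show e.symm (C ((e g).coeff (d' 0))) = MvPolynomial.rename σ.symm
          ((MvPolynomial.finSuccEquiv A m).symm (C (((MvPolynomial.finSuccEquiv A m) (r g)).coeff (d' 0)))) from rfl,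
        MvPolynomial.coeff_rename_mapDomain _ σ.symm.injective, hcoeff, hσd] at h
      exact h
    rw [MvPolynomial.mem_map_C_iff]
    intro d
    by_cases hd : d = 0
    · subst hd
      show MvPolynomial.C (g.coeff 0) ∈ q
      have h : g - MvPolynomial.C (g.coeff 0) ∈ (q.comap MvPolynomial.C).map MvPolynomial.C :=
        MvPolynomial.mem_map_C_iff.mpr fun d => by
          by_cases hd : d = 0
          · subst hd; simp
          · rw [MvPolynomial.coeff_sub, MvPolynomial.coeff_C, if_neg (Ne.symm hd), sub_zero]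
            exact hpos d hd
      have := q.sub_mem hgq (Ideal.map_comap_le h)
      simpa using this
    · exact hpos d hd

/-- Affine space over a normal domain at a prime which is not vertical. -/
theorem covered_mvPolynomial_atPrime {A : Type u} [CommRing A] [IsNoetherianRing A] [IsDomain A] [IsIntegrallyClosed A]
    {n : ℕ} (q : Ideal (MvPolynomial (Fin n) A)) [q.IsPrime]
    (hq : ¬ q ≤ (q.comap MvPolynomial.C).map MvPolynomial.C) : Covered (Localization.AtPrime q) := by
  obtain ⟨m, e, he⟩ := exists_variable_not_vertical q hq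
  let q' := q.comap e.symm.toRingEquiv
  haveI : q'.IsPrime := Ideal.comap_isPrime _ _
  let e' : Localization.AtPrime q ≃+* Localization.AtPrime q' :=
    IsLocalization.ringEquivOfRingEquiv (M := q.primeCompl) (T := q'.primeCompl) _ _ e.toRingEquiv (by
      ext x
      refine ⟨?_, fun hx => ⟨e.symm x, hx, e.apply_symm_apply x⟩⟩
      rintro ⟨y, hy, rfl⟩ h
      exact hy (by
        have h' : e.symm (e y) ∈ q := h
        rwa [AlgEquiv.symm_apply_apply] at h'))
  haveI : IsIntegrallyClosed (MvPolynomial (Fin m) A) := H7Flat.isIntegrallyClosed_mvPolynomial_fin A m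
  exact Covered.of_ringEquiv e' (covered_polynomial_atPrime q' he)

/-- Local rings of dimension two étale over a covered ring are parafactorial. -/
theorem isParafactorial_of_covered {C O : Type u} [CommRing C] [IsLocalRing C] [IsNoetherianRing C]
    [CommRing O] [IsLocalRing O] [IsNoetherianRing O] [Algebra C O] [IsLocalHom (algebraMap C O)] [Module.Flat C O]
    [Algebra.EssFiniteType C O] [Algebra.FormallyUnramified C O] [Algebra.FormallySmooth C O]
    (hC : Covered C) (hdim : (2 : WithBot ℕ∞) ≤ ringKrullDim O) : ParaF.IsParafactorialLocalRing O := by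
  have hm : (maximalIdeal C).map (algebraMap C O) = maximalIdeal O := Algebra.FormallyUnramified.map_maximalIdeal
  rcases hC with h | ⟨A₂, _, _, _, _, Φ, hd, _, hflat, hres, hd0⟩
  · haveI : IsRegularLocalRing O := H19Grp.isRegularLocalRing_of_flat_of_map_maximalIdeal
      (H19Grp.ringKrullDim_le_of_flat_of_isLocalHom (R := C) (S := O)) hm
    obtain ⟨_, _⟩ := Groth.Agent.S2821.result O
    exact isParafactorial_of_ufd hdim
  · exact isParafactorial_of_formallySmooth hm hd Φ hflat hres hd0

end Groth.Agent.H23Para.RS
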