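import Mathlib.RingTheory.MvPowerSeries.Substitution
import Mathlib.RingTheory.MvPowerSeries.Equiv
import Mathlib.RingTheory.MvPowerSeries.Inverse
import Mathlib.RingTheory.LocalRing.ResidueField.Basic
import Mathlib.Data.Finsupp.WellFounded

/-!
# Making a power series regular in one variable
-/

set_option autoImplicit false
set_option linter.style.haveILetI false

noncomputable section

universe u

open MvPowerSeries

namespace Groth.Agent.H23Para.RS

variable {A : Type u} [CommRing A] {n : ℕ}

/-- The substitution `X₀ ↦ X₀`, `Xᵢ ↦ Xᵢ + c X₀^{w i}`. -/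
def shearVar (c : A) (w : Fin (n + 1) → ℕ) (i : Fin (n + 1)) : MvPowerSeries (Fin (n + 1)) A :=
  if i = 0 then X 0 else X i + C c * X 0 ^ w i

theorem hasSubst_shearVar (c : A) (w : Fin (n + 1) → ℕ) (hw : ∀ i, w i ≠ 0) : HasSubst (shearVar c w) := by
  refine hasSubst_of_constantCoeff_zero fun i => ?_
  rw [shearVar]
  split_ifs with h
  · simp
  · simp [hw i]

theorem subst_shearVar_shearVar (c : A) (w : Fin (n + 1) → ℕ) (hw : ∀ i, w i ≠ 0) (f : MvPowerSeries (Fin (n + 1)) A) :
    subst (shearVar (-c) w) (subst (shearVar c w) f) = f := by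
  rw [subst_comp_subst_apply (hasSubst_shearVar c w hw) (hasSubst_shearVar (-c) w hw)]
  have h := hasSubst_shearVar (-c) w hw
  have : (fun i => subst (shearVar (-c) w) (shearVar c w i)) = (X : Fin (n + 1) → MvPowerSeries (Fin (n + 1)) A) := by
    funext i
    by_cases hi : i = 0
    · subst hi
      rw [show shearVar c w (0 : Fin (n + 1)) = X 0 from if_pos rfl, subst_X h]
      exact if_pos rfl
    · rw [show shearVar c w i = X i + C c * X 0 ^ w i from if_neg hi, subst_add h, subst_mul h, subst_pow h,
        subst_X h, subst_X h, subst_C, show shearVar (-c) w i = X i + C (-c) * X 0 ^ w i from if_neg hi,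
        show shearVar (-c) w (0 : Fin (n + 1)) = X 0 from if_pos rfl, map_neg]
      simp
  rw [this, subst_self, id]

/-- The shear automorphism. -/
def shear (w : Fin (n + 1) → ℕ) (hw : ∀ i, w i ≠ 0) :
    MvPowerSeries (Fin (n + 1)) A ≃ₐ[A] MvPowerSeries (Fin (n + 1)) A :=
  AlgEquiv.ofAlgHom (substAlgHom (hasSubst_shearVar 1 w hw)) (substAlgHom (hasSubst_shearVar (-1) w hw))
    (AlgHom.ext fun f => by
      simp only [AlgHom.comp_apply, AlgHom.id_apply, substAlgHom_apply]
      simpa using subst_shearVar_shearVar (-1) w hw f)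
    (AlgHom.ext fun f => by
      simp only [AlgHom.comp_apply, AlgHom.id_apply, substAlgHom_apply]
      exact subst_shearVar_shearVar 1 w hw f)

theorem coeff_single_prod_shearVar (w : Fin (n + 1) → ℕ) (hw0 : w 0 = 1) (d : Fin (n + 1) →₀ ℕ) (k : ℕ) :
    coeff (Finsupp.single 0 k) (d.prod fun i e => shearVar (1 : A) w i ^ e) =
      if k = ∑ i, d i * w i then 1 else 0 := by
  classical
  let I : Ideal (MvPowerSeries (Fin (n + 1)) A) := Ideal.span (X '' {i | i ≠ 0})
  have hI : ∀ x ∈ I, coeff (Finsupp.single 0 k) x = 0 := by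
    intro x hx
    induction hx using Submodule.span_induction with
    | mem y hy =>
      obtain ⟨i, hi, rfl⟩ := hy
      rw [coeff_X, if_neg]
      intro h
      have := DFunLike.congr_fun h i
      rw [Finsupp.single_eq_of_ne hi, Finsupp.single_eq_same] at this
      exact zero_ne_one this
    | zero => simp
    | add y z _ _ hy hz => rw [map_add, hy, hz, add_zero]
    | smul r y hy' hy =>
      obtain ⟨i, hi⟩ : True ∧ True := ⟨trivial, trivial⟩
      clear i hi hy
      induction hy' using Submodule.span_induction generalizing r with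
      | mem y hy =>
        obtain ⟨i, hi, rfl⟩ := hy
        rw [smul_eq_mul, X, coeff_mul_monomial, if_neg]
        intro h
        have := h i
        simp [Finsupp.single_eq_of_ne hi] at this
      | zero => simp
      | add y z _ _ hy hz => rw [smul_add, map_add, hy r, hz r, add_zero]
      | smul s y _ hy => rw [smul_smul]; exact hy _
  have hmk : Ideal.Quotient.mk I (d.prod fun i e => shearVar (1 : A) w i ^ e) =
      Ideal.Quotient.mk I (X 0 ^ ∑ i, d i * w i) := by
    rw [Finsupp.prod_fintype _ _ (fun i => pow_zero _), ← Finset.prod_pow_eq_pow_sum, map_prod, map_prod]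
    refine Finset.prod_congr rfl fun i _ => ?_
    rw [map_pow, map_pow, mul_comm (d i) (w i), pow_mul]
    congr 1
    by_cases hi : i = 0
    · subst hi; simp [shearVar, hw0]
    · rw [shearVar, if_neg hi, map_add, Ideal.Quotient.eq_zero_iff_mem.mpr (show (X i : MvPowerSeries (Fin (n + 1)) A) ∈ I from Ideal.subset_span ⟨i, hi, rfl⟩)]
      simp
  have h := hI _ (Ideal.Quotient.eq.mp hmk)
  rw [map_sub, sub_eq_zero] at h
  rw [h, coeff_X_pow]
  exact if_congr ⟨fun h => by simpa using DFunLike.congr_fun h 0, fun h => by rw [h]⟩ rfl rfl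

variable [IsLocalRing A]

/-- A power series which is not zero modulo `m` becomes regular in the first variable after a shear. -/
theorem exists_equiv_map_residue_ne_zero (g : MvPowerSeries (Fin (n + 1)) A) (hg : ∃ d, IsUnit (coeff d g)) :
    ∃ e : MvPowerSeries (Fin (n + 1)) A ≃ₐ[A] PowerSeries (MvPowerSeries (Fin n) A),
      (e g).map (IsLocalRing.residue (MvPowerSeries (Fin n) A)) ≠ 0 := by
  classical
  let T : Set (Lex (Fin (n + 1) → ℕ)) := {v | IsUnit (coeff (Finsupp.equivFunOnFinite.symm fun i => ofLex v i.rev) g)}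
  obtain ⟨d₁, hd₁⟩ := hg
  obtain ⟨v, hv, hmin⟩ := wellFounded_lt.has_min T ⟨toLex fun i => d₁ i.rev, by
    show IsUnit _
    convert hd₁
    ext i
    simp⟩
  let d : Fin (n + 1) →₀ ℕ := Finsupp.equivFunOnFinite.symm fun i => ofLex v i.rev
  have hd : IsUnit (coeff d g) := hv
  let M := (∑ i, d i) + 1
  let w : Fin (n + 1) → ℕ := fun i => M ^ (i : ℕ)
  have hw : ∀ i, w i ≠ 0 := fun i => pow_ne_zero _ (Nat.succ_ne_zero _)
  have huniq : ∀ d' : Fin (n + 1) →₀ ℕ, IsUnit (coeff d' g) → d' ≠ d → ∑ i, d i * w i < ∑ i, d' i * w i := by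
    intro d' hd' hne
    have hlt : v < toLex fun i : Fin (n + 1) => d' i.rev := by
      refine lt_of_le_of_ne (not_lt.mp (hmin _ ?_)) fun he => hne ?_
      · show IsUnit _
        convert hd'
        ext i
        simp
      · ext i
        simp [d, he]
    obtain ⟨i₀, hbefore, hi₀⟩ := hlt
    let i := i₀.rev
    have hi : d i < d' i := by
      have h : ofLex v i₀ < d' i₀.rev := hi₀
      simpa [d, i] using h
    have habove : ∀ j, i < j → d j = d' j := fun j hj => by
      have h : ofLex v j.rev = d' j.rev.rev := hbefore j.rev (by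
        show j.rev < i₀
        rw [← Fin.rev_lt_rev, Fin.rev_rev]; exact hj)
      simpa [d] using h
    have hbelow : ∑ j ∈ Finset.univ.filter (· < i), d j * w j < w i := by
      rcases Nat.eq_zero_or_pos (i : ℕ) with h0 | h0
      · rw [Finset.sum_eq_zero fun j hj => absurd (Finset.mem_filter.mp hj).2 (by rw [Fin.lt_def, h0]; omega)]
        exact Nat.pos_of_ne_zero (hw i)
      · calc ∑ j ∈ Finset.univ.filter (· < i), d j * w j
            ≤ ∑ j ∈ Finset.univ.filter (· < i), d j * M ^ ((i : ℕ) - 1) := Finset.sum_le_sum fun j hj =>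
              Nat.mul_le_mul_left _ (Nat.pow_le_pow_right (Nat.succ_pos _) (by
                have := (Finset.mem_filter.mp hj).2; rw [Fin.lt_def] at this; omega))
          _ ≤ (M - 1) * M ^ ((i : ℕ) - 1) := by
              rw [← Finset.sum_mul]
              refine Nat.mul_le_mul_right _ ?_
              exact (Finset.sum_le_sum_of_subset (Finset.filter_subset _ _)).trans (le_of_eq (Nat.add_sub_cancel _ 1).symm)
          _ < M * M ^ ((i : ℕ) - 1) := Nat.mul_lt_mul_of_pos_right (Nat.sub_lt (Nat.succ_pos _) Nat.one_pos)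
              (pow_pos (Nat.succ_pos _) _)
          _ = w i := by rw [← pow_succ']; exact congrArg (M ^ ·) (by omega)
    have hsplit : ∀ e : Fin (n + 1) →₀ ℕ, ∑ j, e j * w j =
        (∑ j ∈ Finset.univ.filter (· < i), e j * w j) + (e i * w i + ∑ j ∈ Finset.univ.filter (i < ·), e j * w j) := by
      intro e
      rw [← Finset.sum_filter_add_sum_filter_not Finset.univ (· < i)]
      congr 1
      rw [show Finset.univ.filter (fun j => ¬ j < i) = insert i (Finset.univ.filter (i < ·)) by
        ext j; simp only [Finset.mem_filter, Finset.mem_univ, true_and, Finset.mem_insert, Fin.lt_def, Fin.ext_iff]; omega,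
        Finset.sum_insert (by simp)]
    rw [hsplit d, hsplit d']
    have h1 : ∑ j ∈ Finset.univ.filter (i < ·), d j * w j = ∑ j ∈ Finset.univ.filter (i < ·), d' j * w j :=
      Finset.sum_congr rfl fun j hj => by rw [habove j (Finset.mem_filter.mp hj).2]
    have h2 : (d i + 1) * w i ≤ d' i * w i := Nat.mul_le_mul_right _ hi
    rw [add_mul, one_mul] at h2
    omega
  let W := ∑ i, d i * w i
  refine ⟨(shear w hw).trans ((finSuccEquiv A n)), fun h => ?_⟩
  have h' := congrArg (PowerSeries.coeff W) h
  rw [PowerSeries.coeff_map, map_zero, AlgEquiv.trans_apply, IsLocalRing.residue_eq_zero_iff, IsLocalRing.mem_maximalIdeal,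
    mem_nonunits_iff] at h'
  apply h'
  rw [MvPowerSeries.isUnit_iff_constantCoeff, ← MvPowerSeries.coeff_zero_eq_constantCoeff_apply, coeff_coeff_finSuccEquiv,
    show (0 : Fin n →₀ ℕ).cons W = Finsupp.single 0 W by
      ext j
      refine Fin.cases ?_ (fun j => ?_) j
      · simp
      · simp]
  show IsUnit (coeff _ (substAlgHom (hasSubst_shearVar 1 w hw) g))
  rw [substAlgHom_apply, coeff_subst (hasSubst_shearVar 1 w hw)]
  simp only [coeff_single_prod_shearVar w (by simp [w])]
  have hfin : (Function.support fun e : Fin (n + 1) →₀ ℕ => coeff e g • if W = ∑ i, e i * w i then (1 : A) else 0).Finite := by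
    refine (Set.finite_Iic (Finsupp.equivFunOnFinite.symm fun _ : Fin (n + 1) => W)).subset fun e he j => ?_
    have : W = ∑ i, e i * w i := by
      by_contra hW
      exact he (by simp [hW])
    simp only [Finsupp.equivFunOnFinite_symm_apply_apply]
    calc e j ≤ e j * w j := Nat.le_mul_of_pos_right _ (Nat.pos_of_ne_zero (hw j))
      _ ≤ ∑ i, e i * w i := Finset.single_le_sum (f := fun i => e i * w i) (fun _ _ => Nat.zero_le _) (Finset.mem_univ j)
      _ = W := this.symm
  rw [finsum_eq_sum _ hfin, ← Finset.add_sum_erase _ _ (hfin.mem_toFinset.mpr (show d ∈ Function.support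
    (fun e : Fin (n + 1) →₀ ℕ => coeff e g • if W = ∑ i, e i * w i then (1 : A) else 0) by simpa [W] using hd.ne_zero))]
  refine (IsLocalRing.isUnit_or_isUnit_of_isUnit_add (a := (coeff d g • if W = ∑ i, d i * w i then (1 : A) else 0) +
    ∑ e ∈ hfin.toFinset.erase d, coeff e g • if W = ∑ i, e i * w i then (1 : A) else 0)
    (b := -∑ e ∈ hfin.toFinset.erase d, coeff e g • if W = ∑ i, e i * w i then (1 : A) else 0) ?_).resolve_right ?_
  · simpa [W] using hd
  · rw [IsUnit.neg_iff, ← mem_nonunits_iff, ← IsLocalRing.mem_maximalIdeal]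
    refine Submodule.sum_mem _ fun e he => ?_
    split_ifs with hW
    · rw [smul_eq_mul, mul_one, IsLocalRing.mem_maximalIdeal, mem_nonunits_iff]
      exact fun hu => (huniq e hu (Finset.ne_of_mem_erase he)).ne hW
    · simp

end Groth.Agent.H23Para.RS
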