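import Groth.Agent.H23Para.RS.PowerSeries
import Groth.Agent.H23Para.RS.Shear
import Groth.Agent.H24Art.PowerSeries
import Groth.Agent.S6299
import Mathlib.RingTheory.MvPowerSeries.NoZeroDivisors
import Mathlib.FieldTheory.Minpoly.IsIntegrallyClosed

/-!
# Height one primes of power series over a complete normal domain
-/

set_option autoImplicit false
set_option linter.style.haveILetI false

noncomputable section

universe u

open IsLocalRing

namespace Groth.Agent.H23Para.RS

theorem isIntegrallyClosed_mvPowerSeries (A : Type u) [CommRing A] [IsDomain A] [IsNoetherianRing A]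
    [IsIntegrallyClosed A] (n : ℕ) : IsIntegrallyClosed (MvPowerSeries (Fin n) A) := by
  induction n with
  | zero => exact IsIntegrallyClosed.of_equiv (MvPowerSeries.isEmptyEquiv (Fin 0) A).toRingEquiv.symm
  | succ n ih =>
    haveI : IsDomain (MvPowerSeries (Fin n) A) := NoZeroDivisors.to_isDomain _
    haveI := (Groth.Agent.S6299.result (MvPowerSeries (Fin n) A)).1
    exact IsIntegrallyClosed.of_equiv (MvPowerSeries.finSuccEquiv A n).toRingEquiv.symm

/-- Outside `m A[[X]]` some coefficient is a unit. -/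
theorem exists_isUnit_coeff {A : Type u} [CommRing A] [IsLocalRing A] [IsNoetherianRing A] {n : ℕ}
    {g : MvPowerSeries (Fin n) A} (hg : g ∉ (maximalIdeal A).map MvPowerSeries.C) :
    ∃ d, IsUnit (MvPowerSeries.coeff d g) := by
  by_contra hcon
  push Not at hcon
  refine hg ?_
  obtain ⟨m, a, ha⟩ := Submodule.fg_iff_exists_fin_generating_family.mp (IsNoetherian.noetherian (maximalIdeal A))
  have hmem : ∀ d, MvPowerSeries.coeff d g ∈ Submodule.span A (Set.range a) := fun d =>
    ha.symm ▸ (mem_maximalIdeal _).mpr (hcon d)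
  choose c hc using fun d => (Submodule.mem_span_range_iff_exists_fun A).mp (hmem d)
  let h : Fin m → MvPowerSeries (Fin n) A := fun i d => c d i
  have hh : ∀ i d, MvPowerSeries.coeff d (h i) = c d i := fun i d => rfl
  have : g = ∑ i, MvPowerSeries.C (a i) * h i := by
    ext d
    rw [← hc d, map_sum]
    exact Finset.sum_congr rfl fun i _ => by rw [MvPowerSeries.coeff_C_mul, smul_eq_mul, mul_comm, hh]
  rw [this]
  exact Ideal.sum_mem _ fun i _ => Ideal.mul_mem_right _ _
    (Ideal.mem_map_of_mem _ (ha ▸ Submodule.subset_span ⟨i, rfl⟩))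

/-- A height one prime of `A[[X]]` not contained in `m A[[X]]` is principal, `A` complete normal. -/
theorem isPrincipal_of_height_one (A : Type u) [CommRing A] [IsDomain A] [IsNoetherianRing A] [IsLocalRing A]
    [IsIntegrallyClosed A] [IsAdicComplete (maximalIdeal A) A] (q : Ideal (PowerSeries A)) [q.IsPrime]
    (hq : q.height = 1) {g : PowerSeries A} (hgq : g ∈ q) (hg : g.map (residue A) ≠ 0) :
    Submodule.IsPrincipal q := by
  let G := g.weierstrassDistinguished hg
  have hG : G.IsDistinguishedAt (maximalIdeal A) := PowerSeries.isDistinguishedAt_weierstrassDistinguished hg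
  have hGq : (G : PowerSeries A) ∈ q := by
    rw [← (PowerSeries.isUnit_weierstrassUnit hg).unit.mul_inv_cancel_right (G : PowerSeries A)]
    refine q.mul_mem_right _ ?_
    rw [IsUnit.unit_spec, ← PowerSeries.eq_weierstrassDistinguished_mul_weierstrassUnit hg]
    exact hgq
  let q₀ : Ideal (Polynomial A) := q.comap Polynomial.coeToPowerSeries.ringHom
  have hzero : ∀ a : A, Polynomial.C a ∈ q₀ → a = 0 := by
    intro a ha
    by_contra ha0
    let p := q.comap PowerSeries.C
    haveI : (p.map (PowerSeries.C (R := A))).IsPrime := isPrime_map_C p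
    have hap : PowerSeries.C a ∈ q := by
      have : ((Polynomial.C a : Polynomial A) : PowerSeries A) ∈ q := ha
      rwa [Polynomial.coe_C] at this
    have hlt : p.map PowerSeries.C < q := lt_of_le_of_ne Ideal.map_comap_le fun he => by
      have h := mem_map_C_iff.mp (he.symm ▸ hGq) G.natDegree
      rw [Polynomial.coeff_coe, hG.monic.coeff_natDegree] at h
      exact (inferInstance : q.IsPrime).ne_top ((Ideal.eq_top_iff_one q).mpr (map_one (PowerSeries.C (R := A)) ▸ h))
    have h0 : (⊥ : Ideal (PowerSeries A)) < p.map PowerSeries.C :=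
      bot_lt_iff_ne_bot.mpr fun hb => ha0 (PowerSeries.C_injective (by
        rw [map_zero]
        exact (Submodule.mem_bot _).mp (hb ▸ Ideal.mem_map_of_mem PowerSeries.C (show a ∈ p from hap))))
    have h1 := Ideal.height_strict_mono_of_isPrime h0
    have h2 := Ideal.height_strict_mono_of_isPrime hlt
    rw [hq, ENat.lt_one_iff_eq_zero] at h2
    rw [h2] at h1
    exact not_lt_zero h1
  haveI : q₀.IsPrime := Ideal.comap_isPrime _ _
  let π : Polynomial A →ₐ[A] Polynomial A ⧸ q₀ := Ideal.Quotient.mkₐ A q₀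
  haveI : FaithfulSMul A (Polynomial A ⧸ q₀) := (faithfulSMul_iff_algebraMap_injective A (Polynomial A ⧸ q₀)).mpr
    ((injective_iff_map_eq_zero (algebraMap A (Polynomial A ⧸ q₀))).mpr fun a ha =>
      hzero a (Ideal.Quotient.eq_zero_iff_mem.mp ha))
  haveI : IsDomain (Polynomial A ⧸ q₀) := Ideal.Quotient.isDomain q₀
  haveI : Module.IsTorsionFree A (Polynomial A ⧸ q₀) := inferInstance
  let t := π Polynomial.X
  have heval : ∀ p : Polynomial A, Polynomial.aeval t p = π p := fun p => by
    rw [Polynomial.aeval_algHom_apply, Polynomial.aeval_X_left_apply]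
  have ht : IsIntegral A t := ⟨G, hG.monic, by
    rw [← Polynomial.aeval_def, heval]
    exact Ideal.Quotient.eq_zero_iff_mem.mpr hGq⟩
  let F := minpoly A t
  have hFq : (F : PowerSeries A) ∈ q :=
    (Ideal.Quotient.eq_zero_iff_mem (I := q₀)).mp ((heval F).symm.trans (minpoly.aeval A t))
  refine ⟨⟨(F : PowerSeries A), le_antisymm (fun x hx => ?_) ((Ideal.span_singleton_le_iff_mem q).mpr hFq)⟩⟩
  obtain ⟨r, b, hrb⟩ := exists_div hG x
  have hr : r ∈ q₀ := by
    show (r : PowerSeries A) ∈ q
    rw [show (r : PowerSeries A) = x - (G : PowerSeries A) * b by rw [hrb]; ring]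
    exact q.sub_mem hx (q.mul_mem_right _ hGq)
  obtain ⟨c, hc⟩ := minpoly.isIntegrallyClosed_dvd ht ((heval r).trans (Ideal.Quotient.eq_zero_iff_mem.mpr hr))
  obtain ⟨c', hc'⟩ := minpoly.isIntegrallyClosed_dvd ht ((heval G).trans (Ideal.Quotient.eq_zero_iff_mem.mpr hGq))
  refine Ideal.mem_span_singleton'.mpr ⟨(c : PowerSeries A) + (c' : PowerSeries A) * b, ?_⟩
  rw [hrb, hc, hc', Polynomial.coe_mul, Polynomial.coe_mul]
  ring

/-- **Ramanujam–Samuel**: height one primes of `A[[X₁, …, Xₙ]]` not in `m A[[X]]` are principal. -/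
theorem isPrincipal_mvPowerSeries (A : Type u) [CommRing A] [IsDomain A] [IsNoetherianRing A] [IsLocalRing A]
    [IsIntegrallyClosed A] [IsAdicComplete (maximalIdeal A) A] (n : ℕ) (q : Ideal (MvPowerSeries (Fin n) A))
    [q.IsPrime] (hq : q.height = 1) (hqm : ¬ q ≤ (maximalIdeal A).map (MvPowerSeries.C : A →+* MvPowerSeries (Fin n) A)) :
    Submodule.IsPrincipal q := by
  obtain ⟨g, hgq, hg⟩ := SetLike.not_le_iff_exists.mp hqm
  obtain ⟨d, hd⟩ := exists_isUnit_coeff hg
  cases n with
  | zero =>
    refine absurd ((Ideal.eq_top_of_isUnit_mem q hgq ?_)) (inferInstance : q.IsPrime).ne_top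
    rwa [MvPowerSeries.isUnit_iff_constantCoeff, ← MvPowerSeries.coeff_zero_eq_constantCoeff_apply,
      Subsingleton.elim (0 : Fin 0 →₀ ℕ) d]
  | succ n =>
    haveI : IsDomain (MvPowerSeries (Fin n) A) := NoZeroDivisors.to_isDomain _
    haveI := isIntegrallyClosed_mvPowerSeries A n
    haveI : IsAdicComplete (maximalIdeal (MvPowerSeries (Fin n) A)) (MvPowerSeries (Fin n) A) :=
      H24Art.isAdicComplete_mvPowerSeries
    obtain ⟨e, he⟩ := exists_equiv_map_residue_ne_zero g ⟨d, hd⟩
    let q' : Ideal (PowerSeries (MvPowerSeries (Fin n) A)) := q.comap e.symm.toRingEquiv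
    haveI : q'.IsPrime := Ideal.comap_isPrime _ _
    have hh : q'.height = 1 := (RingEquiv.height_comap e.symm.toRingEquiv q).trans hq
    obtain ⟨F, hF⟩ := (isPrincipal_of_height_one _ q' hh (g := e g) (by
      show e.symm (e g) ∈ q
      rwa [AlgEquiv.symm_apply_apply]) he).principal
    refine ⟨⟨e.symm F, le_antisymm (fun x hx => ?_) ((Ideal.span_singleton_le_iff_mem q).mpr ?_)⟩⟩
    · have hx' : e x ∈ q' := by
        show e.symm (e x) ∈ q
        rwa [AlgEquiv.symm_apply_apply]
      rw [hF] at hx'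
      obtain ⟨c, hc⟩ := Ideal.mem_span_singleton'.mp hx'
      exact Ideal.mem_span_singleton'.mpr ⟨e.symm c, by rw [← map_mul, hc, AlgEquiv.symm_apply_apply]⟩
    · exact (hF.symm ▸ Ideal.mem_span_singleton_self F : F ∈ q')

end Groth.Agent.H23Para.RS
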