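import Groth.Agent.H23Para.RS.Extension
import Groth.Agent.H23Para.RS.Principal
import Groth.Agent.H23Para.Criterion
import Groth.Agent.H23Para.Samuel.CIUfd
import Groth.Agent.H23Para.UFD
import Groth.Agent.H05EGA4.Regular
import Groth.Agent.H05EGA4.Completion
import Mathlib.RingTheory.RegularLocalRing.Polynomial
import Mathlib.RingTheory.AdicCompletion.Functoriality

/-!
# Parafactorial local rings over normal rings
-/

set_option autoImplicit false
set_option linter.style.haveILetI false

noncomputable section

universe u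

open IsLocalRing Polynomial

namespace Groth.Agent.H23Para.RS

theorem isRegularLocalRing_of_ringEquiv {R S : Type u} [CommRing R] [IsRegularLocalRing R] [CommRing S]
    (e : R ≃+* S) : IsRegularLocalRing S := IsRegularLocalRing.of_ringEquiv e

/-- The completed local ring of `A[X]` at a closed point of the closed fibre is parafactorial, `A` normal. -/
theorem isParafactorial_completion_atPrime_of_normal {A : Type u} [CommRing A] [IsLocalRing A] [IsNoetherianRing A]
    [IsDomain A] [IsIntegrallyClosed A] (Q : Ideal A[X]) [Q.IsPrime] (hQm : Q.comap C = maximalIdeal A)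
    (hQ : ¬ Q ≤ (maximalIdeal A).map C) (hdim : (2 : WithBot ℕ∞) ≤ ringKrullDim (Localization.AtPrime Q)) :
    ParaF.IsParafactorialLocalRing
      (AdicCompletion (maximalIdeal (Localization.AtPrime Q)) (Localization.AtPrime Q)) := by
  by_cases h : ringKrullDim A ≤ 1
  · haveI : IsRegularLocalRing A := H1CAlg.isRegularLocalRing_of_isIntegrallyClosed h
    haveI : IsRegularRing A := H05EGA4.isRegularRing_of_isRegularLocalRing A
    haveI : IsRegularLocalRing (Localization.AtPrime Q) := IsRegularRing.isRegularLocalRing_localization _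
    let T := AdicCompletion (maximalIdeal (Localization.AtPrime Q)) (Localization.AtPrime Q)
    haveI : IsRegularLocalRing T := H02CA.isRegularLocalRing_adicCompletion _
    obtain ⟨_, _⟩ := Groth.Agent.S2821.result T
    exact isParafactorial_of_ufd (hdim.trans (H05EGA4.ringKrullDim_adicCompletion _).ge)
  · refine isParafactorial_completion_atPrime (H1CAlg.depth_ge_two_of_isIntegrallyClosed ?_) Q hQm hQ
    obtain ⟨d, hd⟩ := Samuel.exists_ringKrullDim_eq_nat A
    rw [hd] at h ⊢
    exact_mod_cast (show 2 ≤ d by
      by_contra h2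
      exact h (by exact_mod_cast (show d ≤ 1 by omega)))

/-- Parafactoriality passes to a flat local algebra with the same residue field and maximal ideal, if the
completion is parafactorial. -/
theorem isParafactorial_of_completion_equiv {C R : Type u} [CommRing C] [IsLocalRing C] [IsNoetherianRing C]
    [CommRing R] [IsLocalRing R] [IsNoetherianRing R] (φ : C →+* R) [IsLocalHom φ] (hφ : φ.Flat)
    (hm : (maximalIdeal C).map φ = maximalIdeal R) (hres : ∀ r : R, ∃ c : C, r - φ c ∈ maximalIdeal R)
    (h : ParaF.IsParafactorialLocalRing (AdicCompletion (maximalIdeal C) C)) :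
    ParaF.IsParafactorialLocalRing R := by
  let C' := AdicCompletion (maximalIdeal C) C
  let R' := AdicCompletion (maximalIdeal R) R
  haveI := H05EGA4.isNoetherianRing_adicCompletion C (maximalIdeal C)
  haveI := H05EGA4.isNoetherianRing_adicCompletion R (maximalIdeal R)
  obtain ⟨ψ, hψ⟩ := H05EGA4.exists_completion_lift (maximalIdeal C) (maximalIdeal R')
    ((algebraMap R R').comp φ) (by
      rw [← Ideal.map_map, hm, AdicCompletion.maximalIdeal_eq_map])
  haveI := H02CA.isLocalHom_completion φ ψ hψ
  have hflat := (H02CA.flat_completion_iff φ ψ hψ).mpr hφ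
  have hmap : (maximalIdeal C').map ψ = maximalIdeal R' := by
    rw [AdicCompletion.maximalIdeal_eq_map, Ideal.map_map, hψ, ← Ideal.map_map, hm, AdicCompletion.maximalIdeal_eq_map]
  have hinj : Function.Injective ψ := by
    letI : Algebra C' R' := ψ.toAlgebra
    haveI : Module.Flat C' R' := hflat
    haveI : IsLocalHom (algebraMap C' R') := ‹IsLocalHom ψ›
    haveI : Module.FaithfullyFlat C' R' := Module.FaithfullyFlat.of_flat_of_isLocalHom
    exact FaithfulSMul.algebraMap_injective C' R'
  have hsurj : Function.Surjective ψ := by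
    haveI : IsHausdorff ((maximalIdeal C').map ψ) R' := by rw [hmap]; infer_instance
    refine surjective_of_mk_map_comp_surjective (I := maximalIdeal C') (f := ψ) ?_
    intro z
    obtain ⟨z, rfl⟩ := Ideal.Quotient.mk_surjective z
    obtain ⟨y, hy⟩ := (AdicCompletion.residueField_map_bijective R).2 (residue R' z)
    obtain ⟨r, rfl⟩ := residue_surjective y
    obtain ⟨c, hc⟩ := hres r
    refine ⟨algebraMap C C' c, Ideal.Quotient.eq.mpr ?_⟩
    rw [hmap, show ψ (algebraMap C C' c) = algebraMap R R' (φ c) from RingHom.congr_fun hψ c]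
    have h1 : algebraMap R R' r - z ∈ maximalIdeal R' := by
      rw [← residue_eq_zero_iff, map_sub, ← ResidueField.map_residue, hy, sub_self]
    have h2 : algebraMap R R' (r - φ c) ∈ maximalIdeal R' :=
      AdicCompletion.maximalIdeal_eq_map (R := R) ▸ Ideal.mem_map_of_mem _ hc
    rw [map_sub] at h2
    have := sub_mem h1 h2
    simpa using this
  exact Samuel.isParafactorial_of_adicCompletion
    (Samuel.isParafactorial_of_ringEquiv (RingEquiv.ofBijective ψ ⟨hinj, hsurj⟩).symm h)

/-- Parafactoriality of the completion is invariant under ring isomorphisms. -/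
theorem isParafactorial_completion_of_ringEquiv {C R : Type u} [CommRing C] [IsLocalRing C] [IsNoetherianRing C]
    [CommRing R] [IsLocalRing R] [IsNoetherianRing R] (e : C ≃+* R)
    (h : ParaF.IsParafactorialLocalRing (AdicCompletion (maximalIdeal R) R)) :
    ParaF.IsParafactorialLocalRing (AdicCompletion (maximalIdeal C) C) := by
  haveI := H05EGA4.isNoetherianRing_adicCompletion C (maximalIdeal C)
  haveI := H05EGA4.isNoetherianRing_adicCompletion R (maximalIdeal R)
  let φ : C →+* R := e.toRingHom
  haveI : IsLocalHom φ := ⟨fun a ha => by simpa [φ] using ha⟩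
  haveI : IsLocalHom ((algebraMap R (AdicCompletion (maximalIdeal R) R)).comp φ) := RingHom.isLocalHom_comp _ _
  refine isParafactorial_completion_of_flat ((algebraMap R (AdicCompletion (maximalIdeal R) R)).comp φ) ?_ ?_ h
  · exact RingHom.Flat.comp (RingHom.Flat.of_bijective e.bijective)
      (RingHom.flat_algebraMap_iff.mpr (AdicCompletion.flat_of_isNoetherian _))
  · rw [← Ideal.map_map, IsLocalRing.map_maximalIdeal_of_surjective φ e.surjective]
    exact ringKrullDim_eq_zero_of_isField (H05EGA4.isField_completion_fibre R)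

set_option maxHeartbeats 800000 in
/-- The completed local ring of `A[X]` at a prime which is not vertical is parafactorial, `A` normal. -/
theorem isParafactorial_completion_polynomial_atPrime {A : Type u} [CommRing A] [IsNoetherianRing A]
    [IsDomain A] [IsIntegrallyClosed A] (q₀ : Ideal A[X]) [q₀.IsPrime] (hq : ¬ q₀ ≤ (q₀.comap C).map C)
    (hdim : (2 : WithBot ℕ∞) ≤ ringKrullDim (Localization.AtPrime q₀)) :
    ParaF.IsParafactorialLocalRing
      (AdicCompletion (maximalIdeal (Localization.AtPrime q₀)) (Localization.AtPrime q₀)) := by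
  let p := q₀.comap C
  let Ap := Localization.AtPrime p
  haveI : IsDomain Ap := IsLocalization.isDomain_localization p.primeCompl_le_nonZeroDivisors
  haveI : IsIntegrallyClosed Ap := isIntegrallyClosed_of_isLocalization Ap p.primeCompl p.primeCompl_le_nonZeroDivisors
  letI : Algebra A[X] Ap[X] := (Polynomial.mapRingHom (algebraMap A Ap)).toAlgebra
  haveI : IsLocalization (p.primeCompl.map C) Ap[X] := Polynomial.isLocalization p.primeCompl Ap
  have hdisj : Disjoint ((p.primeCompl.map C : Submonoid A[X]) : Set A[X]) (q₀ : Set A[X]) := by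
    rw [Set.disjoint_left]
    rintro _ ⟨a, ha, rfl⟩ h
    exact ha h
  let Q : Ideal Ap[X] := q₀.map (algebraMap A[X] Ap[X])
  haveI : Q.IsPrime := IsLocalization.isPrime_of_isPrime_disjoint _ _ q₀ inferInstance hdisj
  have hQc : Q.comap (algebraMap A[X] Ap[X]) = q₀ := IsLocalization.under_map_of_isPrime_disjoint _ _ inferInstance hdisj
  have e : Localization.AtPrime q₀ ≃+* Localization.AtPrime Q := by
    have aux : ∀ (I : Ideal A[X]) [I.IsPrime], I = q₀ →
        Nonempty (Localization.AtPrime q₀ ≃+* Localization.AtPrime I) := fun I _ h => by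
      subst h; exact ⟨RingEquiv.refl _⟩
    let T := Localization.AtPrime Q
    haveI : IsLocalization.AtPrime T (Q.comap (algebraMap A[X] Ap[X])) :=
      IsLocalization.isLocalization_isLocalization_atPrime_isLocalization (p.primeCompl.map C) T Q
    exact (aux _ hQc).some.trans (IsLocalization.algEquiv (Q.comap (algebraMap A[X] Ap[X])).primeCompl
      (Localization.AtPrime (Q.comap (algebraMap A[X] Ap[X]))) T).toRingEquiv
  have hQm : Q.comap C = maximalIdeal Ap := by
    refine le_antisymm (le_maximalIdeal (Ideal.IsPrime.ne_top (Ideal.comap_isPrime _ _))) ?_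
    rw [← Localization.AtPrime.map_eq_maximalIdeal (I := p)]
    refine Ideal.map_le_iff_le_comap.mpr fun a ha => ?_
    show C (algebraMap A Ap a) ∈ Q
    rw [← Polynomial.map_C]
    exact Ideal.mem_map_of_mem (algebraMap A[X] Ap[X]) (ha : C a ∈ q₀)
  have hQ : ¬ Q ≤ (maximalIdeal Ap).map C := by
    intro h
    refine hq fun r hr => Ideal.mem_map_C_iff.mpr fun i => ?_
    have h2 := Ideal.mem_map_C_iff.mp (h (Ideal.mem_map_of_mem (algebraMap A[X] Ap[X]) hr)) i
    rw [show algebraMap A[X] Ap[X] r = r.map (algebraMap A Ap) from rfl, Polynomial.coeff_map] at h2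
    exact (IsLocalization.AtPrime.to_map_mem_maximal_iff Ap p _).mp h2
  have hdimQ : (2 : WithBot ℕ∞) ≤ ringKrullDim (Localization.AtPrime Q) :=
    hdim.trans (ringKrullDim_eq_of_ringEquiv e).le
  exact isParafactorial_completion_of_ringEquiv e (isParafactorial_completion_atPrime_of_normal Q hQm hQ hdimQ)

set_option maxHeartbeats 800000 in
/-- Localisations of `A⟦X⟧` outside `m A⟦X⟧` are, up to completion, localisations of `A[X]`. -/
theorem isParafactorial_localization_powerSeries_of_polynomial (A : Type u) [CommRing A] [IsNoetherianRing A]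
    [IsLocalRing A] [IsAdicComplete (maximalIdeal A) A] (q : Ideal (PowerSeries A)) [q.IsPrime]
    {g : PowerSeries A} (hgq : g ∈ q) (hg : g.map (residue A) ≠ 0)
    (h : ∀ (q₀ : Ideal A[X]) [q₀.IsPrime], ¬ q₀ ≤ (q₀.comap C).map C →
      ringKrullDim (Localization.AtPrime q₀) = ringKrullDim (Localization.AtPrime q) →
      LocCoh.depth (Localization.AtPrime q₀) (Localization.AtPrime q₀) =
        LocCoh.depth (Localization.AtPrime q) (Localization.AtPrime q) →
      ParaF.IsParafactorialLocalRing
        (AdicCompletion (maximalIdeal (Localization.AtPrime q₀)) (Localization.AtPrime q₀))) :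
    ParaF.IsParafactorialLocalRing (Localization.AtPrime q) := by
  let G := g.weierstrassDistinguished hg
  have hG : G.IsDistinguishedAt (maximalIdeal A) := PowerSeries.isDistinguishedAt_weierstrassDistinguished hg
  have hGq : (G : PowerSeries A) ∈ q := by
    rw [← (PowerSeries.isUnit_weierstrassUnit hg).unit.mul_inv_cancel_right (G : PowerSeries A)]
    refine q.mul_mem_right _ ?_
    rw [IsUnit.unit_spec, ← PowerSeries.eq_weierstrassDistinguished_mul_weierstrassUnit hg]
    exact hgq
  let κ : A[X] →+* PowerSeries A := Polynomial.coeToPowerSeries.ringHom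
  let q₀ : Ideal A[X] := q.comap κ
  let C₀ := Localization.AtPrime q₀
  let R := Localization.AtPrime q
  let φ : C₀ →+* R := Localization.localRingHom q₀ q κ rfl
  haveI : IsLocalHom φ := Localization.isLocalHom_localRingHom q₀ q κ rfl
  have hφ : φ.Flat := by
    letI : Algebra A[X] (PowerSeries A) := κ.toAlgebra
    letI : Algebra C₀ R := φ.toAlgebra
    haveI : IsScalarTower A[X] C₀ R := IsScalarTower.of_algebraMap_eq fun x =>
      (IsScalarTower.algebraMap_apply A[X] (PowerSeries A) R x).trans (Localization.localRingHom_to_map q₀ q κ rfl x).symm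
    haveI : Module.Flat A[X] (PowerSeries A) := flat_coe A
    haveI : Module.Flat A[X] R := Module.Flat.trans A[X] (PowerSeries A) R
    exact (Module.flat_iff_of_isLocalization C₀ q₀.primeCompl R).mpr inferInstance
  have hdec : ∀ x : PowerSeries A, ∃ r : A[X], x - κ r ∈ Ideal.span {(G : PowerSeries A)} := fun x => by
    obtain ⟨r, b, hrb⟩ := exists_div hG x
    exact ⟨r, Ideal.mem_span_singleton'.mpr ⟨b, by rw [hrb]; show b * _ = _ + _ - (r : PowerSeries A); ring⟩⟩
  have hqmap : q₀.map κ = q := by
    refine le_antisymm Ideal.map_comap_le fun x hx => ?_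
    obtain ⟨r, hr⟩ := hdec x
    have hGm : (G : PowerSeries A) ∈ q₀.map κ := Ideal.mem_map_of_mem κ (show G ∈ q₀ from hGq)
    have hspan : Ideal.span {(G : PowerSeries A)} ≤ q₀.map κ := (Ideal.span_singleton_le_iff_mem _).mpr hGm
    have hrq : r ∈ q₀ := by
      show κ r ∈ q
      have := q.sub_mem hx ((Ideal.span_singleton_le_iff_mem q).mpr hGq hr)
      simpa using this
    simpa using add_mem (hspan hr) (Ideal.mem_map_of_mem κ hrq)
  have hm : (maximalIdeal C₀).map φ = maximalIdeal R := by
    rw [← Localization.AtPrime.map_eq_maximalIdeal (I := q₀), Ideal.map_map,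
      show φ.comp (algebraMap A[X] C₀) = (algebraMap (PowerSeries A) R).comp κ from
        RingHom.ext fun x => Localization.localRingHom_to_map q₀ q κ rfl x,
      ← Ideal.map_map, hqmap, Localization.AtPrime.map_eq_maximalIdeal]
  have hres : ∀ r : R, ∃ c : C₀, r - φ c ∈ maximalIdeal R := by
    intro r
    obtain ⟨x, s, rfl⟩ := IsLocalization.exists_mk'_eq q.primeCompl r
    obtain ⟨a, ha⟩ := hdec x
    obtain ⟨b, hb⟩ := hdec s
    have hle := (Ideal.span_singleton_le_iff_mem q).mpr hGq
    have hbq : b ∉ q₀ := fun h => s.2 (by simpa using q.add_mem (hle hb) h)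
    refine ⟨IsLocalization.mk' C₀ a (⟨b, hbq⟩ : q₀.primeCompl), ?_⟩
    rw [show φ (IsLocalization.mk' C₀ a (⟨b, hbq⟩ : q₀.primeCompl)) =
        IsLocalization.mk' R (κ a) (⟨κ b, hbq⟩ : q.primeCompl) from Localization.localRingHom_mk' q₀ q κ rfl a ⟨b, hbq⟩,
      ← IsLocalization.mk'_sub]
    refine (IsLocalization.AtPrime.mk'_mem_maximal_iff R q _ _).mpr ?_
    have h1 : x * κ b - κ a * (s : PowerSeries A) = (x - κ a) * κ b - κ a * ((s : PowerSeries A) - κ b) := by ring
    simp only
    rw [h1]
    exact q.sub_mem (q.mul_mem_right _ (hle ha)) (q.mul_mem_left _ (hle hb))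
  letI : Algebra C₀ R := φ.toAlgebra
  haveI : Module.Flat C₀ R := hφ
  haveI : IsLocalHom (algebraMap C₀ R) := ‹IsLocalHom φ›
  haveI hmax : ((maximalIdeal C₀).map (algebraMap C₀ R)).IsMaximal := by
    rw [show (maximalIdeal C₀).map (algebraMap C₀ R) = maximalIdeal R from hm]
    infer_instance
  have hdim0 : ringKrullDim (R ⧸ (maximalIdeal C₀).map (algebraMap C₀ R)) = 0 :=
    ringKrullDim_eq_zero_of_isField ((Ideal.Quotient.maximal_ideal_iff_isField_quotient _).mp hmax)
  refine isParafactorial_of_completion_equiv φ hφ hm hres (h q₀ (fun hle => ?_) ?_ ?_)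
  · have h2 := Ideal.mem_map_C_iff.mp (hle (show G ∈ q₀ from hGq)) G.natDegree
    rw [hG.monic.coeff_natDegree] at h2
    exact (Ideal.IsPrime.ne_top (Ideal.comap_isPrime C q₀)) ((Ideal.eq_top_iff_one _).mpr h2)
  · rw [H8Props.FlatDepth.ringKrullDim_eq_add C₀ R, hdim0, add_zero]
  · haveI : Nontrivial (R ⧸ (maximalIdeal C₀).map (algebraMap C₀ R)) := Ideal.Quotient.nontrivial_iff.mpr hmax.ne_top
    haveI : IsLocalRing (R ⧸ (maximalIdeal C₀).map (algebraMap C₀ R)) :=
      .of_surjective' _ Ideal.Quotient.mk_surjective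
    have h0 : LocCoh.depth (R ⧸ (maximalIdeal C₀).map (algebraMap C₀ R))
        (R ⧸ (maximalIdeal C₀).map (algebraMap C₀ R)) = 0 := by
      refine le_antisymm (WithBot.coe_le_coe.mp ?_) zero_le
      exact (H8Props.FlatDepth.depth_le_dim _).trans hdim0.le
    rw [H8Props.FlatDepth.depth_eq_add C₀ R, h0, add_zero]

/-- Localisations of `A⟦X⟧` outside `m A⟦X⟧` are parafactorial in dimension two, `A` complete normal. -/
theorem isParafactorial_localization_powerSeries (A : Type u) [CommRing A] [IsDomain A] [IsNoetherianRing A]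
    [IsLocalRing A] [IsIntegrallyClosed A] [IsAdicComplete (maximalIdeal A) A] (q : Ideal (PowerSeries A)) [q.IsPrime]
    {g : PowerSeries A} (hgq : g ∈ q) (hg : g.map (residue A) ≠ 0)
    (hdim : (2 : WithBot ℕ∞) ≤ ringKrullDim (Localization.AtPrime q)) :
    ParaF.IsParafactorialLocalRing (Localization.AtPrime q) :=
  isParafactorial_localization_powerSeries_of_polynomial A q hgq hg fun q₀ _ hq₀ hd _ =>
    isParafactorial_completion_polynomial_atPrime q₀ hq₀ (hd ▸ hdim)

/-- **Ramanujam–Samuel**, local form for `A⟦X₁, …, Xₙ⟧`, `A` complete normal. -/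
theorem isParafactorial_localization_mvPowerSeries (A : Type u) [CommRing A] [IsDomain A] [IsNoetherianRing A]
    [IsLocalRing A] [IsIntegrallyClosed A] [IsAdicComplete (maximalIdeal A) A] (n : ℕ)
    (q : Ideal (MvPowerSeries (Fin n) A)) [q.IsPrime]
    (hqm : ¬ q ≤ (maximalIdeal A).map (MvPowerSeries.C : A →+* MvPowerSeries (Fin n) A))
    (hdim : (2 : WithBot ℕ∞) ≤ ringKrullDim (Localization.AtPrime q)) :
    ParaF.IsParafactorialLocalRing (Localization.AtPrime q) := by
  obtain ⟨g, hgq, hg⟩ := SetLike.not_le_iff_exists.mp hqm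
  obtain ⟨d, hd⟩ := exists_isUnit_coeff hg
  cases n with
  | zero =>
    refine absurd ((Ideal.eq_top_of_isUnit_mem q hgq ?_)) (inferInstance : q.IsPrime).ne_top
    rwa [MvPowerSeries.isUnit_iff_constantCoeff, ← MvPowerSeries.coeff_zero_eq_constantCoeff_apply,
      Subsingleton.elim (0 : Fin 0 →₀ ℕ) d]
  | succ n =>
    haveI : IsDomain (MvPowerSeries (Fin n) A) := NoZeroDivisors.to_isDomain _
    haveI := isIntegrallyClosed_mvPowerSeries A n
    haveI : IsAdicComplete (maximalIdeal (MvPowerSeries (Fin n) A)) (MvPowerSeries (Fin n) A) :=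
      H24Art.isAdicComplete_mvPowerSeries
    obtain ⟨e, he⟩ := exists_equiv_map_residue_ne_zero g ⟨d, hd⟩
    let q' : Ideal (PowerSeries (MvPowerSeries (Fin n) A)) := q.comap e.symm.toRingEquiv
    haveI : q'.IsPrime := Ideal.comap_isPrime _ _
    let e' : Localization.AtPrime q ≃+* Localization.AtPrime q' :=
      IsLocalization.ringEquivOfRingEquiv (M := q.primeCompl) (T := q'.primeCompl) _ _ e.toRingEquiv (by
        ext x
        refine ⟨?_, fun hx => ⟨e.symm x, hx, e.apply_symm_apply x⟩⟩
        rintro ⟨y, hy, rfl⟩ h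
        exact hy (by
          have h' : e.symm (e y) ∈ q := h
          rwa [AlgEquiv.symm_apply_apply] at h'))
    exact Samuel.isParafactorial_of_ringEquiv e' (isParafactorial_localization_powerSeries _ q' (g := e g) (by
      show e.symm (e g) ∈ q
      rwa [AlgEquiv.symm_apply_apply]) he (hdim.trans (ringKrullDim_eq_of_ringEquiv e').le))

end Groth.Agent.H23Para.RS
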