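import Groth.Agent.H23Para.RS.PowerSeries
import Groth.Agent.H02CA.CompletionFlat
import Groth.Agent.H05EGA4.DerivExt
import Groth.Agent.H05EGA4.Regular2
import Groth.Agent.H24Adic.Rig
import Groth.Agent.H23Para.Samuel.CI
import Groth.Agent.S2865
import Groth.Agent.H24Art.PowerSeries
import Mathlib.RingTheory.AdjoinRoot
import Mathlib.RingTheory.PolynomialAlgebra
import Mathlib.RingTheory.MvPowerSeries.Equiv
import Mathlib.RingTheory.RingHom.Flat

/-!
# Parafactoriality of completed local rings of the affine line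
-/

set_option autoImplicit false
set_option linter.style.haveILetI false

noncomputable section

universe u

open IsLocalRing Polynomial

namespace Groth.Agent.H23Para.RS

/-- `A⟦X⟧` is flat over `A[X]`. -/
theorem flat_coe (A : Type u) [CommRing A] [IsNoetherianRing A] :
    (Polynomial.coeToPowerSeries.ringHom : A[X] →+* PowerSeries A).Flat := by
  haveI : IsNoetherianRing (MvPolynomial Unit A) := inferInstance
  have h1 : (algebraMap (MvPolynomial Unit A) (MvPowerSeries Unit A)).Flat := by
    rw [RingHom.flat_algebraMap_iff]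
    haveI : Module.Flat (MvPolynomial Unit A) (AdicCompletion (MvPolynomial.idealOfVars Unit A) (MvPolynomial Unit A)) :=
      AdicCompletion.flat_of_isNoetherian _
    exact Module.Flat.of_linearEquiv (MvPowerSeries.toAdicCompletionAlgEquiv Unit A).toLinearEquiv
  let e := (MvPolynomial.pUnitAlgEquiv.{u, 0} A).symm
  have h2 : (Polynomial.coeToPowerSeries.ringHom : A[X] →+* PowerSeries A) =
      (algebraMap (MvPolynomial Unit A) (MvPowerSeries Unit A)).comp e.toRingEquiv.toRingHom := by
    refine Polynomial.ringHom_ext (fun a => ?_) ?_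
    · simp [e, PowerSeries.C, MvPowerSeries.algebraMap_apply']
    · simp [e, PowerSeries.X, MvPowerSeries.algebraMap_apply']
  rw [h2]
  exact RingHom.Flat.comp (RingHom.Flat.of_bijective e.bijective) h1

variable {A A' : Type u} [CommRing A] [CommRing A'] [Algebra A A']

theorem flat_mapRingHom [Module.Flat A A'] : (Polynomial.mapRingHom (algebraMap A A')).Flat := by
  letI : Algebra A[X] A'[X] := (Polynomial.mapRingHom (algebraMap A A')).toAlgebra
  haveI : Algebra.IsPushout A A[X] A' A'[X] := inferInstance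
  exact Module.Flat.isBaseChange A A[X] A' A'[X] (Algebra.IsPushout.out (R := A) (S := A[X]) (R' := A') (S' := A'[X]))

/-- Power series over a complete local ring form a complete local ring. -/
theorem isAdicComplete_powerSeries (A₂ : Type u) [CommRing A₂] [IsLocalRing A₂] [IsNoetherianRing A₂]
    [IsAdicComplete (maximalIdeal A₂) A₂] : IsAdicComplete (maximalIdeal (PowerSeries A₂)) (PowerSeries A₂) := by
  haveI : IsAdicComplete (maximalIdeal (MvPowerSeries (Fin 1) A₂)) (MvPowerSeries (Fin 1) A₂) :=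
    H24Art.isAdicComplete_mvPowerSeries
  let e : MvPowerSeries (Fin 1) A₂ ≃+* PowerSeries A₂ :=
    (MvPowerSeries.renameEquiv A₂ (Equiv.ofUnique (Fin 1) Unit)).toRingEquiv
  rw [← IsLocalRing.map_maximalIdeal_of_surjective e.toRingHom e.surjective]
  exact (IsAdicComplete.congr_ringEquiv _ e).mpr ‹_›

/-- A flat map of local rings with zero dimensional closed fibre onto a complete parafactorial ring gives
parafactoriality of the completed source. -/
theorem isParafactorial_completion_of_flat {C B : Type u} [CommRing C] [IsLocalRing C] [IsNoetherianRing C]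
    [CommRing B] [IsLocalRing B] [IsNoetherianRing B] [IsAdicComplete (maximalIdeal B) B]
    (φ : C →+* B) [IsLocalHom φ] (hφ : φ.Flat)
    (hdim : ringKrullDim (B ⧸ (maximalIdeal C).map φ) = 0) (hB : ParaF.IsParafactorialLocalRing B) :
    ParaF.IsParafactorialLocalRing (AdicCompletion (maximalIdeal C) C) := by
  haveI := H05EGA4.isNoetherianRing_adicCompletion C (maximalIdeal C)
  haveI := H05EGA4.isNoetherianRing_adicCompletion B (maximalIdeal B)
  obtain ⟨ψ, hψ⟩ := H05EGA4.exists_completion_lift (maximalIdeal C)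
    (maximalIdeal (AdicCompletion (maximalIdeal B) B))
    ((algebraMap B (AdicCompletion (maximalIdeal B) B)).comp φ) (by
      rw [← Ideal.map_map, AdicCompletion.maximalIdeal_eq_map]
      exact Ideal.map_mono (((local_hom_TFAE φ).out 0 2).mp ‹_›))
  have hflat := (H02CA.flat_completion_iff φ ψ hψ).mpr hφ
  haveI := H02CA.isLocalHom_completion φ ψ hψ
  let e : B ≃+* AdicCompletion (maximalIdeal B) B := RingEquiv.ofBijective (algebraMap B _)
    (AdicCompletion.of_bijective (maximalIdeal B) B)
  letI : Algebra (AdicCompletion (maximalIdeal C) C) (AdicCompletion (maximalIdeal B) B) := ψ.toAlgebra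
  haveI : Module.Flat (AdicCompletion (maximalIdeal C) C) (AdicCompletion (maximalIdeal B) B) := hflat
  haveI : IsLocalHom (algebraMap (AdicCompletion (maximalIdeal C) C) (AdicCompletion (maximalIdeal B) B)) :=
    ‹IsLocalHom ψ›
  refine Groth.Agent.S2865.result (AdicCompletion (maximalIdeal C) C) (AdicCompletion (maximalIdeal B) B) ?_
    (Samuel.isParafactorial_of_ringEquiv e.symm hB)
  refine Eq.trans (ringKrullDim_eq_of_ringEquiv (Ideal.quotientEquiv _ _ e ?_)).symm hdim
  rw [AdicCompletion.maximalIdeal_eq_map, Ideal.map_map]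
  show _ = ((maximalIdeal C).map φ).map (algebraMap B (AdicCompletion (maximalIdeal B) B))
  rw [Ideal.map_map]
  exact congrArg (fun f => Ideal.map f (maximalIdeal C)) hψ

variable [IsLocalRing A] [IsNoetherianRing A]

set_option maxHeartbeats 1000000 in
/-- The local ring of `A[X]` at a closed point of the closed fibre is covered by power series over a complete
ring of depth two, with the same residue field. -/
theorem exists_cover (hd : (2 : ℕ∞) ≤ LocCoh.depth A A) (Q : Ideal A[X]) [Q.IsPrime]
    (hQm : Q.comap C = maximalIdeal A) (hQ : ¬ Q ≤ (maximalIdeal A).map C) :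
    ∃ (A₂ : Type u) (_ : CommRing A₂) (_ : IsLocalRing A₂) (_ : IsNoetherianRing A₂)
      (_ : IsAdicComplete (maximalIdeal A₂) A₂) (Φ : Localization.AtPrime Q →+* PowerSeries A₂),
      (2 : ℕ∞) ≤ LocCoh.depth A₂ A₂ ∧ IsLocalHom Φ ∧ Φ.Flat ∧
      (∀ b : PowerSeries A₂, ∃ c, b - Φ c ∈ maximalIdeal (PowerSeries A₂)) ∧
      ringKrullDim (PowerSeries A₂ ⧸ (maximalIdeal (Localization.AtPrime Q)).map Φ) = 0 := by
  -- a monic generator of `Q` modulo `m`
  let k := ResidueField A
  let π : A[X] →+* k[X] := Polynomial.mapRingHom (residue A)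
  have hπ : Function.Surjective π := Polynomial.map_surjective _ residue_surjective
  have hkerπ : RingHom.ker π = (maximalIdeal A).map C := by
    rw [Polynomial.ker_mapRingHom, IsLocalRing.ker_residue]
  have hle : RingHom.ker π ≤ Q := hkerπ.le.trans (Ideal.map_le_iff_le_comap.mpr hQm.ge)
  let Qk := Q.map π
  haveI : Qk.IsPrime := Ideal.map_isPrime_of_surjective hπ hle
  have hQk : Qk ≠ ⊥ := fun h => hQ (hkerπ ▸ (Ideal.map_eq_bot_iff_le_ker π).mp h)
  obtain ⟨f₀, hf₀, hf₀m⟩ : ∃ f₀ ∈ Qk, f₀.Monic := by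
    obtain ⟨p, hp, hp0⟩ := Submodule.exists_mem_ne_zero_of_ne_bot hQk
    exact ⟨p * Polynomial.C p.leadingCoeff⁻¹, Qk.mul_mem_right _ hp, monic_mul_leadingCoeff_inv hp0⟩
  haveI : Qk.IsMaximal := Ideal.IsPrime.isMaximal inferInstance hQk
  obtain ⟨f₁, hf₁⟩ := (IsPrincipalIdealRing.principal Qk).principal
  have hf₁0 : f₁ ≠ 0 := fun h => hQk (by rw [hf₁, h]; simp)
  let fk := f₁ * Polynomial.C f₁.leadingCoeff⁻¹
  have hfk : Qk = Ideal.span {fk} := by
    rw [hf₁]
    exact (Ideal.span_singleton_mul_right_unit ((isUnit_C.mpr (isUnit_iff_ne_zero.mpr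
      (inv_ne_zero (leadingCoeff_ne_zero.mpr hf₁0))))) f₁).symm
  obtain ⟨f, hfπ, -, hfm⟩ := lifts_and_degree_eq_and_monic
    (show fk ∈ Polynomial.lifts (residue A) from (mem_lifts _).mpr (hπ fk)) (monic_mul_leadingCoeff_inv hf₁0)
  have hfQ : f ∈ Q := by
    have : π f ∈ Qk := by
      rw [hfk]; exact Ideal.mem_span_singleton.mpr (dvd_of_eq hfπ.symm)
    obtain ⟨g, hg, hgf⟩ := (Ideal.mem_map_iff_of_surjective π hπ).mp this
    have hker : f - g ∈ RingHom.ker π := by rw [RingHom.mem_ker, map_sub, hgf, sub_self]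
    simpa using Q.add_mem (hle hker) hg
  -- the completion and the root
  let A₁ := AdicCompletion (maximalIdeal A) A
  haveI := H05EGA4.isNoetherianRing_adicCompletion A (maximalIdeal A)
  haveI : Module.Flat A A₁ := AdicCompletion.flat_of_isNoetherian _
  let f₁' : A₁[X] := f.map (algebraMap A A₁)
  have hf₁m : f₁'.Monic := hfm.map _
  let A₂ := AdjoinRoot f₁'
  haveI : Module.Finite A₁ A₂ := hf₁m.finite_adjoinRoot
  haveI : Module.Free A₁ A₂ := hf₁m.free_adjoinRoot
  haveI : IsNoetherianRing A₂ := IsNoetherianRing.of_finite A₁ A₂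
  haveI : IsScalarTower A A₁ A₂ := inferInstance
  haveI : Module.Flat A A₂ := Module.Flat.trans A A₁ A₂
  let φ : A[X] →+* PowerSeries A₂ := Polynomial.eval₂RingHom
    ((PowerSeries.C).comp (algebraMap A A₂)) (PowerSeries.C (AdjoinRoot.root f₁') + PowerSeries.X)
  -- the closed fibre of `A₂` is a field
  let M₂ : Ideal A₂ := (maximalIdeal A₁).map (algebraMap A₁ A₂)
  let ρ : A[X] →+* A₂ ⧸ M₂ :=
    (Ideal.Quotient.mk M₂).comp (Polynomial.eval₂RingHom (algebraMap A A₂) (AdjoinRoot.root f₁'))
  have hρ : Function.Surjective ρ := by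
    intro z
    obtain ⟨z, rfl⟩ := Ideal.Quotient.mk_surjective z
    obtain ⟨p, rfl⟩ := AdjoinRoot.mk_surjective z
    have hres : Function.Surjective (fun a : A => residue A₁ (algebraMap A A₁ a)) := by
      intro x
      obtain ⟨y, hy⟩ := (AdicCompletion.residueField_map_bijective A).2 x
      obtain ⟨a, rfl⟩ := residue_surjective y
      exact ⟨a, by rw [← hy, ResidueField.map_residue]⟩
    obtain ⟨q, hq⟩ := Polynomial.map_surjective ((residue A₁).comp (algebraMap A A₁)) hres (p.map (residue A₁))
    refine ⟨q, Ideal.Quotient.eq.mpr ?_⟩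
    have hmem : q.map (algebraMap A A₁) - p ∈ (maximalIdeal A₁).map (Polynomial.C) := by
      rw [show (maximalIdeal A₁).map Polynomial.C = RingHom.ker (Polynomial.mapRingHom (residue A₁)) by
          rw [Polynomial.ker_mapRingHom, IsLocalRing.ker_residue], RingHom.mem_ker, map_sub, coe_mapRingHom,
        Polynomial.map_map, hq, sub_self]
    have := Ideal.mem_map_of_mem (AdjoinRoot.mk f₁') hmem
    rw [Ideal.map_map, map_sub] at this
    convert! this using 2
    rw [coe_eval₂RingHom, AdjoinRoot.algebraMap_eq', ← Polynomial.eval₂_map, ← AdjoinRoot.aeval_eq]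
    rfl
  have hM₂ : M₂.IsMaximal := by
    have hker : Q ≤ RingHom.ker ρ := by
      intro g hg
      have hg' : π g ∈ Ideal.span {fk} := hfk ▸ Ideal.mem_map_of_mem π hg
      obtain ⟨c, hc⟩ := Ideal.mem_span_singleton'.mp hg'
      obtain ⟨c, rfl⟩ := hπ c
      rw [← hfπ] at hc
      have hd : g - c * f ∈ (maximalIdeal A).map C := by
        rw [← hkerπ, RingHom.mem_ker, map_sub, map_mul, show π f = f.map (residue A) from rfl, hc, sub_self]
      rw [RingHom.mem_ker, show g = (g - c * f) + c * f by ring, map_add, map_mul,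
        show ρ f = 0 by
          show Ideal.Quotient.mk M₂ (f.eval₂ (algebraMap A A₂) (AdjoinRoot.root f₁')) = 0
          rw [IsScalarTower.algebraMap_eq A A₁ A₂, ← Polynomial.eval₂_map, AdjoinRoot.algebraMap_eq,
            AdjoinRoot.eval₂_root, map_zero],
        mul_zero, add_zero, ← RingHom.mem_ker]
      refine (Ideal.map_le_iff_le_comap.mpr fun a ha => ?_) hd
      show ρ (C a) = 0
      simp only [ρ, RingHom.comp_apply, coe_eval₂RingHom, eval₂_C]
      rw [Ideal.Quotient.eq_zero_iff_mem, IsScalarTower.algebraMap_apply A A₁ A₂]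
      exact Ideal.mem_map_of_mem _ (AdicCompletion.maximalIdeal_eq_map (R := A) ▸ Ideal.mem_map_of_mem _ ha)
    haveI : Q.IsMaximal := by
      have hQ' : Qk.comap π = Q := by
        rw [Ideal.comap_map_of_surjective π hπ, ← RingHom.ker_eq_comap_bot, sup_eq_left]
        exact hle
      rw [← hQ']
      exact Ideal.comap_isMaximal_of_surjective π hπ
    have hMne : M₂ ≠ ⊤ := fun h => by
      have h' : (maximalIdeal A₁) • (⊤ : Submodule A₁ A₂) = ⊤ := by
        rw [Ideal.smul_top_eq_map]; simp [M₂] at h; rw [h]; rfl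
      haveI : Nontrivial A₂ := by
        by_contra hnt
        rw [not_nontrivial_iff_subsingleton] at hnt
        have hu : IsUnit f₁' := isUnit_of_dvd_one (AdjoinRoot.mk_eq_zero.mp (Subsingleton.elim (α := A₂) _ _))
        have hd0 : f.natDegree = 0 := by
          rw [← hfm.natDegree_map (algebraMap A A₁), show f.map (algebraMap A A₁) = 1 from hf₁m.eq_one_of_isUnit hu,
            natDegree_one]
        exact (inferInstance : Q.IsPrime).ne_top ((Ideal.eq_top_iff_one Q).mpr (hfm.natDegree_eq_zero.mp hd0 ▸ hfQ))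
      exact H4Depth.maximalIdeal_smul_top_ne_top (R := A₁) (M := A₂) h'
    have hkerρ : RingHom.ker ρ = Q := ((inferInstance : Q.IsMaximal).eq_of_le (fun h => hMne ?_) hker).symm
    · haveI : Q.IsMaximal := inferInstance
      exact Ideal.Quotient.maximal_of_isField _ (MulEquiv.isField
        ((Ideal.Quotient.maximal_ideal_iff_isField_quotient Q).mp inferInstance)
        ((Ideal.quotEquivOfEq hkerρ.symm).trans (RingHom.quotientKerEquivOfSurjective hρ)).symm.toMulEquiv)
    · rw [Ideal.eq_top_iff_one, ← Ideal.Quotient.eq_zero_iff_mem]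
      have : (1 : A[X]) ∈ RingHom.ker ρ := h ▸ trivial
      simpa using this
  haveI hA₂ : IsLocalRing A₂ := IsLocalRing.of_unique_max_ideal ⟨M₂, hM₂, fun N hN =>
    (hM₂.eq_of_le hN.ne_top (Ideal.map_le_iff_le_comap.mpr
      (le_of_eq (IsLocalRing.eq_maximalIdeal (Ideal.isMaximal_comap_of_isIntegral_of_isMaximal N)).symm))).symm⟩
  have hm₂ : maximalIdeal A₂ = M₂ := (IsLocalRing.eq_maximalIdeal hM₂).symm
  haveI : IsAdicComplete (maximalIdeal A₂) A₂ := by
    rw [hm₂]
    exact (IsAdicComplete.map_algebraMap_iff (maximalIdeal A₁) A₂ (S := A₂)).mpr (H24Adic.isAdicComplete_of_finite _)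
  haveI : IsLocalHom (algebraMap A₁ A₂) := ((local_hom_TFAE _).out 0 2).mpr hm₂.ge
  haveI : IsLocalHom (algebraMap A A₂) := ((local_hom_TFAE _).out 0 2).mpr (by
    rw [IsScalarTower.algebraMap_eq A A₁ A₂, ← Ideal.map_map, hm₂]
    exact Ideal.map_mono (AdicCompletion.maximalIdeal_eq_map (R := A)).ge)
  have hmA₂ : (maximalIdeal A).map (algebraMap A A₂) = maximalIdeal A₂ := by
    rw [IsScalarTower.algebraMap_eq A A₁ A₂, ← Ideal.map_map, hm₂, ← AdicCompletion.maximalIdeal_eq_map]
  have hd₂ : (2 : ℕ∞) ≤ LocCoh.depth A₂ A₂ := by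
    rw [H8Props.FlatDepth.depth_eq_add (A := A) (B := A₂)]
    exact le_add_right hd
  -- flatness
  have hφflat : φ.Flat := by
    let α : A₂[X] := Polynomial.C (AdjoinRoot.root f₁') + Polynomial.X
    let s : A₂[X] ≃ₐ[A₂] A₂[X] := Polynomial.algEquivAevalXAddC (AdjoinRoot.root f₁')
    have : φ = (Polynomial.coeToPowerSeries.ringHom).comp
        (s.toRingEquiv.toRingHom.comp (Polynomial.mapRingHom (algebraMap A A₂))) := by
      refine Polynomial.ringHom_ext (fun a => ?_) ?_
      · simp [φ, s]
      · simp [φ, s, add_comm]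
    rw [this]
    exact RingHom.Flat.comp (RingHom.Flat.comp flat_mapRingHom (RingHom.Flat.of_bijective s.bijective)) (flat_coe A₂)
  have hmemφ : ∀ a ∈ maximalIdeal A, φ (C a) ∈ maximalIdeal (PowerSeries A₂) := fun a ha => by
    rw [IsLocalRing.mem_maximalIdeal, mem_nonunits_iff, PowerSeries.isUnit_iff_constantCoeff]
    simp only [φ, coe_eval₂RingHom, eval₂_C, RingHom.comp_apply, PowerSeries.constantCoeff_C]
    exact (IsLocalRing.mem_maximalIdeal _).mp (hmA₂ ▸ Ideal.mem_map_of_mem _ ha)
  have hcc : ∀ g : A[X], PowerSeries.constantCoeff (φ g) = g.eval₂ (algebraMap A A₂) (AdjoinRoot.root f₁') := fun g => by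
    simp only [φ, coe_eval₂RingHom, Polynomial.hom_eval₂]
    congr 1 <;> simp [RingHom.ext_iff]
  have hfroot : f.eval₂ (algebraMap A A₂) (AdjoinRoot.root f₁') = 0 := by
    rw [IsScalarTower.algebraMap_eq A A₁ A₂, ← Polynomial.eval₂_map, AdjoinRoot.algebraMap_eq, AdjoinRoot.eval₂_root]
  have hcomap : (maximalIdeal (PowerSeries A₂)).comap φ = Q := by
    haveI : Q.IsMaximal := by
      have hQ' : Qk.comap π = Q := by
        rw [Ideal.comap_map_of_surjective π hπ, ← RingHom.ker_eq_comap_bot, sup_eq_left]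
        exact hle
      rw [← hQ']
      exact Ideal.comap_isMaximal_of_surjective π hπ
    refine ((inferInstance : Q.IsMaximal).eq_of_le
      (Ideal.IsPrime.ne_top (Ideal.comap_isPrime φ (maximalIdeal (PowerSeries A₂)))) fun g hg => ?_).symm
    have hg' : π g ∈ Ideal.span {fk} := hfk ▸ Ideal.mem_map_of_mem π hg
    obtain ⟨c, hc⟩ := Ideal.mem_span_singleton'.mp hg'
    obtain ⟨c, rfl⟩ := hπ c
    rw [← hfπ] at hc
    have hd : g - c * f ∈ (maximalIdeal A).map C := by
      rw [← hkerπ, RingHom.mem_ker, map_sub, map_mul, show π f = f.map (residue A) from rfl, hc, sub_self]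
    have h1 : g - c * f ∈ (maximalIdeal (PowerSeries A₂)).comap φ :=
      Ideal.map_le_iff_le_comap.mpr (fun a ha => Ideal.mem_comap.mpr (Ideal.mem_comap.mpr (hmemφ a ha))) hd
    have h2 : f ∈ (maximalIdeal (PowerSeries A₂)).comap φ := by
      rw [Ideal.mem_comap, IsLocalRing.mem_maximalIdeal, mem_nonunits_iff, PowerSeries.isUnit_iff_constantCoeff,
        hcc, hfroot]
      exact not_isUnit_zero
    simpa using add_mem h1 (Ideal.mul_mem_left _ c h2)
  -- the map on the local ring
  let Cq := Localization.AtPrime Q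
  have hunit : ∀ y : Q.primeCompl, IsUnit (φ y) := fun y => by
    by_contra h
    exact y.2 (hcomap ▸ ((IsLocalRing.mem_maximalIdeal _).mpr h : φ y ∈ maximalIdeal (PowerSeries A₂)))
  let Φ : Cq →+* PowerSeries A₂ := IsLocalization.lift hunit
  have hΦ : Φ.comp (algebraMap A[X] Cq) = φ := IsLocalization.lift_comp hunit
  haveI : IsLocalHom Φ := ((local_hom_TFAE Φ).out 0 2).mpr (by
    rw [← Localization.AtPrime.map_eq_maximalIdeal, Ideal.map_map, hΦ, ← hcomap]
    exact Ideal.map_comap_le)
  have hΦflat : Φ.Flat := by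
    letI : Algebra A[X] (PowerSeries A₂) := φ.toAlgebra
    letI : Algebra Cq (PowerSeries A₂) := Φ.toAlgebra
    haveI : IsScalarTower A[X] Cq (PowerSeries A₂) := IsScalarTower.of_algebraMap_eq' hΦ.symm
    exact (Module.flat_iff_of_isLocalization Cq Q.primeCompl (PowerSeries A₂)).mpr hφflat
  have hres₂ : ∀ b : PowerSeries A₂, ∃ c, b - Φ c ∈ maximalIdeal (PowerSeries A₂) := by
    intro b
    obtain ⟨q, hq⟩ := hρ (Ideal.Quotient.mk M₂ (PowerSeries.constantCoeff b))
    refine ⟨algebraMap A[X] Cq q, ?_⟩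
    rw [show Φ (algebraMap A[X] Cq q) = φ q from RingHom.congr_fun hΦ q, IsLocalRing.mem_maximalIdeal, mem_nonunits_iff,
      PowerSeries.isUnit_iff_constantCoeff, map_sub, hcc, ← mem_nonunits_iff, ← IsLocalRing.mem_maximalIdeal, hm₂,
      ← neg_sub, neg_mem_iff]
    exact Ideal.Quotient.eq.mp hq
  refine ⟨A₂, inferInstance, hA₂, inferInstance, inferInstance, Φ, hd₂, inferInstance, hΦflat, hres₂, ?_⟩
  -- the closed fibre is zero dimensional
  let I := (maximalIdeal Cq).map Φ
  haveI : Nontrivial (PowerSeries A₂ ⧸ I) := Ideal.Quotient.nontrivial_iff.mpr (ne_top_of_le_ne_top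
    (maximalIdeal.isMaximal _).ne_top (((local_hom_TFAE Φ).out 0 2).mp ‹IsLocalHom Φ›))
  haveI : Ring.KrullDimLE 0 (PowerSeries A₂ ⧸ I) := Ring.krullDimLE_zero_iff.mpr fun P hP => by
    let P' := P.comap (Ideal.Quotient.mk I)
    have hIP : I ≤ P' := fun x hx => by
      show Ideal.Quotient.mk I x ∈ P
      rw [Ideal.Quotient.eq_zero_iff_mem.mpr hx]
      exact zero_mem P
    have hQP : ∀ g ∈ Q, φ g ∈ P' := fun g hg => hIP (by
      rw [← hΦ]
      exact Ideal.mem_map_of_mem Φ (Localization.AtPrime.map_eq_maximalIdeal (I := Q) ▸ Ideal.mem_map_of_mem _ hg))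
    have hmP : (maximalIdeal A₂).map PowerSeries.C ≤ P' := by
      rw [← hmA₂, Ideal.map_map]
      refine Ideal.map_le_iff_le_comap.mpr fun a ha => ?_
      have := hQP (C a) (hQm.ge ha)
      simpa [φ] using this
    have hres : (φ f).map (residue A₂) ≠ 0 := by
      have : (φ f).map (residue A₂) = (((f.map ((residue A₂).comp (algebraMap A A₂))).comp
          (Polynomial.C (residue A₂ (AdjoinRoot.root f₁')) + Polynomial.X) : (ResidueField A₂)[X]) :
            PowerSeries (ResidueField A₂)) := by
        show PowerSeries.map (residue A₂) (f.eval₂ _ _) =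
          Polynomial.coeToPowerSeries.ringHom ((f.map _).eval₂ Polynomial.C _)
        rw [Polynomial.hom_eval₂, Polynomial.hom_eval₂, Polynomial.eval₂_map]
        congr 1 <;> simp [RingHom.ext_iff, Polynomial.coeToPowerSeries.ringHom_apply]
      rw [this]
      intro h
      have h' : ((f.map ((residue A₂).comp (algebraMap A A₂))).comp
          (Polynomial.C (residue A₂ (AdjoinRoot.root f₁')) + Polynomial.X)) = 0 := Polynomial.coe_eq_zero_iff.mp h
      have hm' : ((f.map ((residue A₂).comp (algebraMap A A₂))).comp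
          (Polynomial.C (residue A₂ (AdjoinRoot.root f₁')) + Polynomial.X)).Monic := by
        rw [add_comm]
        exact (hfm.map _).comp_X_add_C _
      exact hm'.ne_zero h'
    obtain ⟨G, h, hG, hu, heq⟩ : ∃ (G : A₂[X]) (h : PowerSeries A₂), G.IsDistinguishedAt (maximalIdeal A₂) ∧
        IsUnit h ∧ φ f = (G : PowerSeries A₂) * h :=
      ⟨_, _, PowerSeries.isDistinguishedAt_weierstrassDistinguished hres, PowerSeries.isUnit_weierstrassUnit hres,
        PowerSeries.eq_weierstrassDistinguished_mul_weierstrassUnit hres⟩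
    have hGP : (G : PowerSeries A₂) ∈ P' := by
      have := hQP f hfQ
      rw [heq] at this
      exact (Ideal.unit_mul_mem_iff_mem P' hu).mp (mul_comm (G : PowerSeries A₂) h ▸ this)
    have hX : (PowerSeries.X : PowerSeries A₂) ∈ P' := by
      refine (hP.comap (Ideal.Quotient.mk I)).mem_of_pow_mem G.natDegree ?_
      have h1 : (G : PowerSeries A₂) - PowerSeries.X ^ G.natDegree ∈ P' := hmP (mem_map_C_iff.mpr fun n => by
        rw [map_sub, Polynomial.coeff_coe, PowerSeries.coeff_X_pow]
        split_ifs with h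
        · rw [h, hG.monic.coeff_natDegree, sub_self]; exact zero_mem _
        · rw [sub_zero]
          rcases Nat.lt_or_ge n G.natDegree with hn | hn
          · exact hG.mem hn
          · rw [Polynomial.coeff_eq_zero_of_natDegree_lt (lt_of_le_of_ne hn (Ne.symm h))]
            exact zero_mem _)
      simpa [P'] using sub_mem hGP h1
    have hP' : P' = maximalIdeal (PowerSeries A₂) := by
      refine le_antisymm (le_maximalIdeal (hP.comap _).ne_top) fun z hz => ?_
      have hz0 : PowerSeries.constantCoeff z ∈ maximalIdeal A₂ := by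
        rw [IsLocalRing.mem_maximalIdeal, mem_nonunits_iff]
        exact fun h => (IsLocalRing.mem_maximalIdeal z).mp hz (PowerSeries.isUnit_iff_constantCoeff.mpr h)
      rw [PowerSeries.eq_X_mul_shift_add_const z]
      exact add_mem (P'.mul_mem_right _ hX) (hmP (Ideal.mem_map_of_mem _ hz0))
    haveI : (P.comap (Ideal.Quotient.mk I)).IsMaximal := by
      show P'.IsMaximal
      rw [hP']; infer_instance
    rw [← Ideal.map_comap_of_surjective (Ideal.Quotient.mk I) Ideal.Quotient.mk_surjective P]
    exact Ideal.IsMaximal.map_of_surjective_of_ker_le Ideal.Quotient.mk_surjective (by rw [Ideal.mk_ker]; exact hIP)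
  exact le_antisymm (Ring.krullDimLE_iff.mp inferInstance) ringKrullDim_nonneg_of_nontrivial

/-- The completed local ring of `A[X]` at a closed point of the closed fibre is parafactorial, `depth A ≥ 2`. -/
theorem isParafactorial_completion_atPrime (hd : (2 : ℕ∞) ≤ LocCoh.depth A A) (Q : Ideal A[X]) [Q.IsPrime]
    (hQm : Q.comap C = maximalIdeal A) (hQ : ¬ Q ≤ (maximalIdeal A).map C) :
    ParaF.IsParafactorialLocalRing
      (AdicCompletion (maximalIdeal (Localization.AtPrime Q)) (Localization.AtPrime Q)) := by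
  obtain ⟨A₂, _, _, _, _, Φ, hd₂, _, hflat, -, hdim⟩ := exists_cover hd Q hQm hQ
  haveI := isAdicComplete_powerSeries A₂
  exact isParafactorial_completion_of_flat Φ hflat hdim (isParafactorial_powerSeries hd₂)

end Groth.Agent.H23Para.RS
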