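import Groth.Agent.H23Para.Lift.Solve
import Groth.Agent.H23Para.Principal
import Groth.Agent.H4Depth.DepthLemmas
import Groth.Agent.H4Depth.IdealDepth
import Mathlib.LinearAlgebra.Matrix.Charpoly.LinearMap
import Mathlib.RingTheory.Polynomial.Basic

/-!
# Ideals of polynomials which are monogenic and flat over a punctured spectrum

An ideal of `A[X]`, `depth A ≥ 2`, containing a monic polynomial, saturated and flat over the punctured spectrum,
is generated by a monic polynomial.
-/

set_option autoImplicit false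
set_option linter.style.haveILetI false

noncomputable section

universe u v

open Polynomial

namespace Groth.Agent.H23Para.RS

variable {A : Type u} [CommRing A]

/-- Nakayama's lemma at a prime. -/
theorem exists_notMem_smul_eq_zero (Q : Type v) [AddCommGroup Q] [Module A Q] [Module.Finite A Q]
    {P : Ideal A} [P.IsPrime] (hQ : ∀ q : Q, ∃ u ∉ P, u • q ∈ P • (⊤ : Submodule A Q)) :
    ∃ e ∉ P, ∀ q : Q, e • q = 0 := by
  classical
  obtain ⟨S, hS⟩ := Module.Finite.fg_top (R := A) (M := Q)
  choose u hu hq using hQ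
  let b := S.prod u
  have hb : b ∉ P := fun h => by
    obtain ⟨q, -, hq⟩ := ((inferInstance : P.IsPrime).prod_mem_iff).mp h
    exact hu q hq
  let φ : Module.End A Q := algebraMap A _ b
  have hφ : LinearMap.range φ ≤ P • (⊤ : Submodule A Q) := by
    rw [LinearMap.range_eq_map, ← hS, Submodule.map_span, Submodule.span_le]
    rintro _ ⟨q, hqS, rfl⟩
    obtain ⟨c, hc⟩ := Finset.dvd_prod_of_mem u (Finset.mem_coe.mp hqS)
    rw [SetLike.mem_coe, hS]
    change b • q ∈ P • (⊤ : Submodule A Q)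
    rw [show b = u q * c from hc, mul_comm, mul_smul]
    exact Submodule.smul_mem _ _ (hq q)
  obtain ⟨F, hF, -, hcoef, hev⟩ :=
    LinearMap.exists_monic_and_natDegree_eq_and_coeff_mem_pow_and_aeval_eq_zero A φ P hφ
  refine ⟨F.eval b, fun hmem => hb ?_, fun q => ?_⟩
  · rw [Polynomial.eval_eq_sum_range, Finset.sum_range_succ, hF.coeff_natDegree, one_mul] at hmem
    have h0 : (∑ k ∈ Finset.range F.natDegree, F.coeff k * b ^ k) ∈ P :=
      P.sum_mem fun k hk => P.mul_mem_right _
        (Ideal.pow_le_self (Nat.sub_ne_zero_of_lt (Finset.mem_range.mp hk)) (hcoef k))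
    exact Ideal.IsPrime.mem_of_pow_mem inferInstance _ ((Submodule.add_mem_iff_right P h0).mp hmem)
  · rw [show φ = algebraMap A _ b from rfl, Polynomial.aeval_algebraMap_apply] at hev
    simpa using LinearMap.congr_fun hev q

section Gluing

variable [IsLocalRing A] [IsNoetherianRing A]

theorem exists_regular_mem (hd : (1 : ℕ∞) ≤ LocCoh.depth A A) :
    ∃ a ∈ IsLocalRing.maximalIdeal A, IsSMulRegular A a :=
  (H4Depth.one_le_idealDepth_iff (H4Depth.maximalIdeal_smul_top_ne_top (R := A))).mp hd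

/-- In depth one, an element killed locally off the closed point is zero. -/
theorem eq_zero_of_forall (hd : (1 : ℕ∞) ≤ LocCoh.depth A A) (z : A)
    (h : ∀ P : PrimeSpectrum A, P ≠ IsLocalRing.closedPoint A → ∃ s, s ∉ P.asIdeal ∧ s * z = 0) : z = 0 := by
  obtain ⟨a, ha, hreg⟩ := exists_regular_mem hd
  obtain ⟨k, hk⟩ := Lift.exists_pow_le (LinearMap.ker (LinearMap.toSpanSingleton A A z)) fun P hP => by
    obtain ⟨s, hs, hsz⟩ := h P hP
    exact ⟨s, hsz, hs⟩
  have h1 : a ^ k * z = 0 := hk (Ideal.pow_mem_pow ha k)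
  exact (hreg.pow k).right_eq_zero_of_smul h1

theorem exists_regular_pair (hd : (2 : ℕ∞) ≤ LocCoh.depth A A) :
    ∃ a b : A, a ∈ IsLocalRing.maximalIdeal A ∧ b ∈ IsLocalRing.maximalIdeal A ∧ IsSMulRegular A a ∧
      ∀ x, a ∣ b * x → a ∣ x := by
  obtain ⟨rs, hlen, hmem, hrs⟩ := H4Depth.exists_isWeaklyRegular_of_le_idealDepth (n := 2)
    (H4Depth.maximalIdeal_smul_top_ne_top (R := A)) hd
  match rs, hlen with
  | [a, b], _ =>
    rw [RingTheory.Sequence.isWeaklyRegular_cons_iff, RingTheory.Sequence.isWeaklyRegular_singleton_iff] at hrs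
    refine ⟨a, b, hmem a (by simp), hmem b (by simp), hrs.1, fun x hx => ?_⟩
    have h := hrs.2.right_eq_zero_of_smul (x := (Submodule.Quotient.mk x : QuotSMulTop a A)) (by
      rw [← Submodule.Quotient.mk_smul, Submodule.Quotient.mk_eq_zero, Submodule.mem_smul_pointwise_iff_exists]
      obtain ⟨y, hy⟩ := hx
      exact ⟨y, trivial, by simp [smul_eq_mul, hy]⟩)
    rw [Submodule.Quotient.mk_eq_zero, Submodule.mem_smul_pointwise_iff_exists] at h
    obtain ⟨y, -, hy⟩ := h
    exact ⟨y, hy.symm⟩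

/-- In depth two, functionals on ideals supported at the closed point are multiplications. -/
theorem exists_eq_mul (hd : (2 : ℕ∞) ≤ LocCoh.depth A A) (C : Ideal A)
    (hC : ∀ P : PrimeSpectrum A, P ≠ IsLocalRing.closedPoint A → ∃ e ∈ C, e ∉ P.asIdeal) (φ : C →ₗ[A] A) :
    ∃ c, ∀ x : C, φ x = c * x := by
  obtain ⟨a, b, ha, hb, hreg, hab⟩ := exists_regular_pair hd
  obtain ⟨k, hk⟩ := Lift.exists_pow_le C hC
  let A' : C := ⟨a ^ k, hk (Ideal.pow_mem_pow ha k)⟩
  let B' : C := ⟨b ^ k, hk (Ideal.pow_mem_pow hb k)⟩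
  have h : ∀ x y : C, (x : A) * φ y = y * φ x := fun x y => by
    rw [← smul_eq_mul, ← map_smul, ← smul_eq_mul, ← map_smul]
    exact congrArg φ (Subtype.ext (mul_comm (x : A) y))
  obtain ⟨c, hc⟩ := dvd_of_dvd_pow_mul hreg hab k (φ A') k ⟨φ B', (h B' A')⟩
  refine ⟨c, fun x => hreg.pow k ?_⟩
  show a ^ k * φ x = a ^ k * (c * x)
  rw [h A' x, hc]
  ring

/-- The punctured spectrum of a local ring of depth two is connected. -/
theorem punctured_dichotomy (hd : (2 : ℕ∞) ≤ LocCoh.depth A A) (a b : Ideal A)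
    (hmul : ∀ P : PrimeSpectrum A, P ≠ IsLocalRing.closedPoint A → a ≤ P.asIdeal ∨ b ≤ P.asIdeal)
    (hsup : ∀ P : PrimeSpectrum A, P ≠ IsLocalRing.closedPoint A → ¬(a ≤ P.asIdeal ∧ b ≤ P.asIdeal)) :
    (∀ P : PrimeSpectrum A, P ≠ IsLocalRing.closedPoint A → a ≤ P.asIdeal) ∨
      (∀ P : PrimeSpectrum A, P ≠ IsLocalRing.closedPoint A → b ≤ P.asIdeal) := by
  classical
  have hd1 : (1 : ℕ∞) ≤ LocCoh.depth A A := le_trans (by norm_num) hd
  obtain ⟨N, hN⟩ := IsNoetherianRing.isNilpotent_nilradical A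
  have hnil : a * b ≤ nilradical A := by
    rw [nilradical_eq_sInf]
    refine le_sInf fun Q hQ => ?_
    obtain ⟨P, hP, hPQ⟩ : ∃ P : PrimeSpectrum A, P ≠ IsLocalRing.closedPoint A ∧ P.asIdeal ≤ Q := by
      by_cases hQm : (⟨Q, hQ⟩ : PrimeSpectrum A) = IsLocalRing.closedPoint A
      · by_contra hcon
        push Not at hcon
        refine one_ne_zero (eq_zero_of_forall hd1 (1 : A) fun P hP => absurd ?_ (hcon P hP))
        rw [show Q = IsLocalRing.maximalIdeal A from congrArg PrimeSpectrum.asIdeal hQm]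
        exact IsLocalRing.le_maximalIdeal P.2.ne_top
      · exact ⟨_, hQm, le_rfl⟩
    rcases hmul P hP with h | h
    · exact (Ideal.mul_le_left.trans h).trans hPQ
    · exact (Ideal.mul_le_right.trans h).trans hPQ
  have h0 : a ^ N * b ^ N ≤ (⊥ : Ideal A) := by
    rw [← mul_pow]
    exact (Ideal.pow_right_mono hnil N).trans hN.le
  have hC : ∀ P : PrimeSpectrum A, P ≠ IsLocalRing.closedPoint A → ∃ e ∈ a ^ N ⊔ b ^ N, e ∉ P.asIdeal := by
    intro P hP
    rcases not_and_or.mp (hsup P hP) with h | h <;> obtain ⟨e, he, heP⟩ := SetLike.not_le_iff_exists.mp h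
    · exact ⟨e ^ N, Submodule.mem_sup_left (Ideal.pow_mem_pow he N), fun h' => heP (P.2.mem_of_pow_mem N h')⟩
    · exact ⟨e ^ N, Submodule.mem_sup_right (Ideal.pow_mem_pow he N), fun h' => heP (P.2.mem_of_pow_mem N h')⟩
  have hdisj : ∀ z, z ∈ a ^ N → z ∈ b ^ N → z = 0 := fun z hza hzb =>
    eq_zero_of_forall hd1 z fun P hP => by
      obtain ⟨e, he, heP⟩ := hC P hP
      obtain ⟨x, hx, y, hy, rfl⟩ := Submodule.mem_sup.mp he
      refine ⟨x + y, heP, ?_⟩
      rw [add_mul, (Submodule.mem_bot A).mp (h0 (Ideal.mul_mem_mul hx hzb)), mul_comm,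
        (Submodule.mem_bot A).mp (h0 (Ideal.mul_mem_mul hza hy)), add_zero]
  choose y hy z hz hyz using fun x : ↥(a ^ N ⊔ b ^ N) => Submodule.mem_sup.mp x.2
  have huniq : ∀ (x : ↥(a ^ N ⊔ b ^ N)) (y' : A), y' ∈ a ^ N → (x : A) - y' ∈ b ^ N → y x = y' := by
    intro x y' hy' hz'
    refine sub_eq_zero.mp (hdisj _ (sub_mem (hy x) hy') ?_)
    have : y x - y' = ((x : A) - y') - z x := by rw [← hyz x]; ring
    rw [this]
    exact sub_mem hz' (hz x)
  let φ : ↥(a ^ N ⊔ b ^ N) →ₗ[A] A :=
    { toFun := y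
      map_add' := fun x x' => huniq _ _ (add_mem (hy x) (hy x')) (by
        have : ((x + x' : ↥(a ^ N ⊔ b ^ N)) : A) - (y x + y x') = z x + z x' := by
          rw [Submodule.coe_add, ← hyz x, ← hyz x']; ring
        rw [this]; exact add_mem (hz x) (hz x'))
      map_smul' := fun r x => huniq _ _ (Ideal.mul_mem_left _ r (hy x)) (by
        have : ((r • x : ↥(a ^ N ⊔ b ^ N)) : A) - r * y x = r * z x := by
          rw [Submodule.coe_smul, smul_eq_mul, ← hyz x]; ring
        rw [RingHom.id_apply, smul_eq_mul, this]; exact Ideal.mul_mem_left _ _ (hz x)) }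
  obtain ⟨c, hc⟩ := exists_eq_mul hd _ hC φ
  rcases IsLocalRing.isUnit_or_isUnit_one_sub_self c with hu | hu
  · refine Or.inr fun P _ w hw => P.2.mem_of_pow_mem N ?_
    have h := hc ⟨w ^ N, Submodule.mem_sup_right (Ideal.pow_mem_pow hw N)⟩
    rw [show φ _ = (0 : A) from huniq _ 0 (zero_mem _) (by rw [sub_zero]; exact Ideal.pow_mem_pow hw N)] at h
    rw [show w ^ N = 0 from hu.mul_right_eq_zero.mp h.symm]
    exact zero_mem _
  · refine Or.inl fun P _ w hw => P.2.mem_of_pow_mem N ?_
    have h := hc ⟨w ^ N, Submodule.mem_sup_left (Ideal.pow_mem_pow hw N)⟩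
    rw [show φ _ = w ^ N from huniq _ _ (Ideal.pow_mem_pow hw N) (by simp)] at h
    rw [show w ^ N = 0 from hu.mul_right_eq_zero.mp (by linear_combination h)]
    exact zero_mem _

end Gluing

theorem degree_C_mul_le' (a : A) (p : A[X]) : (C a * p).degree ≤ p.degree :=
  (degree_mul_le _ _).trans (add_le_of_nonpos_left degree_C_le)

section Ideals

variable (J : Ideal A[X])

/-- The elements of `J` of degree less than `j`. -/
def low (j : ℕ) : Submodule A A[X] := (J.restrictScalars A) ⊓ degreeLT A j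

theorem mem_low {j : ℕ} {x : A[X]} : x ∈ low J j ↔ x ∈ J ∧ x.degree < j := by
  simp [low, mem_degreeLT]

/-- The leading coefficients in degree `j`. -/
def leadIn (j : ℕ) : Ideal A := (low J (j + 1)).map (lcoeff A j)

theorem mem_leadIn {j : ℕ} {a : A} : a ∈ leadIn J j ↔ ∃ x, x ∈ low J (j + 1) ∧ x.coeff j = a := by
  simp [leadIn, Submodule.mem_map]

/-- The ideal whose complement is the locus of degree `j`. -/
def locus (j : ℕ) : Ideal A := leadIn J j * (low J j).annihilator

variable {J}

theorem coeff_eq_zero_of_mem_low {j i : ℕ} {x : A[X]} (hx : x ∈ low J j) (hi : j ≤ i) : x.coeff i = 0 :=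
  coeff_eq_zero_of_degree_lt ((mem_low J).mp hx |>.2.trans_le (by exact_mod_cast hi))

theorem locus_le_or (P : Ideal A) [P.IsPrime] {i j : ℕ} (hij : i < j) : locus J i ≤ P ∨ locus J j ≤ P := by
  by_contra hcon
  rw [not_or] at hcon
  obtain ⟨a, ha, haP⟩ := SetLike.not_le_iff_exists.mp fun h => hcon.1 (Ideal.mul_le_left.trans h)
  obtain ⟨b, hb, hbP⟩ := SetLike.not_le_iff_exists.mp fun h => hcon.2 (Ideal.mul_le_right.trans h)
  obtain ⟨x, hx, rfl⟩ := (mem_leadIn J).mp ha
  have hx' : x ∈ low J j := (mem_low J).mpr ⟨((mem_low J).mp hx).1,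
    ((mem_low J).mp hx).2.trans_le (by exact_mod_cast hij)⟩
  have h := Submodule.mem_annihilator.mp hb x hx'
  have h2 := congrArg (fun q : A[X] => q.coeff i) h
  simp only [coeff_smul, coeff_zero, smul_eq_mul] at h2
  rcases (inferInstance : P.IsPrime).mem_or_mem (h2 ▸ P.zero_mem : b * x.coeff i ∈ P) with h3 | h3
  · exact hbP h3
  · exact haP h3

variable [IsNoetherianRing A]

/-- The degree of a saturated flat ideal at a prime. -/
theorem exists_locus_not_le (P : Ideal A) [P.IsPrime] {G : A[X]} (hG : G.Monic) (hGJ : G ∈ J)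
    (hflat : ∀ x ∈ J, (∀ i, x.coeff i ∈ P) → ∃ s, s ∉ P ∧ C s * x ∈ (P.map C) * J) :
    ∃ e, ¬ locus J e ≤ P := by
  classical
  have hex : ∃ e, ∃ x ∈ J, x.coeff e ∉ P ∧ ∀ i, e < i → x.coeff i ∈ P :=
    ⟨G.natDegree, G, hGJ, by rw [hG.coeff_natDegree]; exact (Ideal.ne_top_iff_one P).mp Ideal.IsPrime.ne_top',
      fun i hi => by rw [coeff_eq_zero_of_natDegree_lt hi]; exact zero_mem _⟩
  obtain ⟨x, hxJ, hxe, hxP⟩ := Nat.find_spec hex
  let e := Nat.find hex
  refine ⟨e, ?_⟩
  -- the quotient is finite and, near `P`, spanned by low degrees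
  let M := A[X] ⧸ J
  let mkJ : A[X] →ₗ[A] M := (Ideal.Quotient.mkₐ A J).toLinearMap
  haveI : Module.Finite A (A[X] ⧸ Ideal.span {G}) := hG.finite_quotient
  haveI : Module.Finite A M :=
    Module.Finite.of_surjective
      ((Ideal.Quotient.factorₐ A ((Ideal.span_singleton_le_iff_mem J).mpr hGJ)).toLinearMap :
        A[X] ⧸ Ideal.span {G} →ₗ[A] M) (Ideal.Quotient.factor_surjective ((Ideal.span_singleton_le_iff_mem J).mpr hGJ))
  let S : Submodule A M := (degreeLT A e).map mkJ
  let T : Submodule A M :=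
    { carrier := {q | ∃ u, u ∉ P ∧ u • q ∈ S ⊔ P • ⊤}
      zero_mem' := ⟨1, (Ideal.ne_top_iff_one P).mp Ideal.IsPrime.ne_top', by simp⟩
      add_mem' := fun {q q'} ⟨u, hu, h⟩ ⟨u', hu', h'⟩ => ⟨u * u', (inferInstance : P.IsPrime).mul_notMem hu hu', by
        rw [smul_add]
        exact add_mem (by rw [mul_comm, mul_smul]; exact Submodule.smul_mem _ _ h)
          (by rw [mul_smul]; exact Submodule.smul_mem _ _ h')⟩
      smul_mem' := fun r q ⟨u, hu, h⟩ => ⟨u, hu, by rw [smul_comm]; exact Submodule.smul_mem _ _ h⟩ }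
  have hST : S ⊔ P • ⊤ ≤ T := fun q hq => ⟨1, (Ideal.ne_top_iff_one P).mp Ideal.IsPrime.ne_top', by rwa [one_smul]⟩
  have hX : ∀ j, mkJ (X ^ j) ∈ T := by
    intro j
    induction j using Nat.strong_induction_on with
    | h j ih =>
      by_cases hj : j < e
      · exact hST (Submodule.mem_sup_left (Submodule.mem_map_of_mem (mem_degreeLT.mpr
          ((degree_X_pow_le j).trans_lt (by exact_mod_cast hj)))))
      push Not at hj
      have h0 : mkJ (X ^ (j - e) * x) = 0 := Ideal.Quotient.eq_zero_iff_mem.mpr (J.mul_mem_left _ hxJ)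
      conv at h0 => rw [x.as_sum_range' (max (e + 1) (x.natDegree + 1)) (lt_of_lt_of_le (Nat.lt_succ_self _) (le_max_right _ _))]
      rw [Finset.mul_sum, map_sum, ← Finset.add_sum_erase _ _ (Finset.mem_range.mpr
        (lt_of_lt_of_le (Nat.lt_succ_self e) (le_max_left _ _)))] at h0
      have hterm : ∀ i, mkJ (X ^ (j - e) * monomial i (x.coeff i)) = x.coeff i • mkJ (X ^ (j - e + i)) := fun i => by
        rw [← map_smul, ← C_mul_X_pow_eq_monomial, smul_eq_C_mul]
        exact congrArg mkJ (by ring)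
      have hrest : ∑ i ∈ (Finset.range (max (e + 1) (x.natDegree + 1))).erase e,
          mkJ (X ^ (j - e) * monomial i (x.coeff i)) ∈ T := T.sum_mem fun i hi => by
        rw [hterm]
        rcases lt_or_gt_of_ne (Finset.ne_of_mem_erase hi) with hie | hie
        · exact T.smul_mem _ (ih _ (by omega))
        · exact hST (Submodule.mem_sup_right (Submodule.smul_mem_smul (hxP i hie) trivial))
      have h1 : x.coeff e • mkJ (X ^ j) ∈ T := by
        rw [show j = j - e + e by omega, ← hterm, eq_neg_of_add_eq_zero_left h0]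
        exact T.neg_mem hrest
      obtain ⟨u, hu, h⟩ := h1
      exact ⟨u * x.coeff e, (inferInstance : P.IsPrime).mul_notMem hu hxe, by rwa [mul_smul]⟩
  have hall : ∀ q : M ⧸ S, ∃ u ∉ P, u • q ∈ P • (⊤ : Submodule A (M ⧸ S)) := by
    intro q
    obtain ⟨m, rfl⟩ := Submodule.Quotient.mk_surjective S q
    obtain ⟨p, rfl⟩ := (Ideal.Quotient.mk_surjective : Function.Surjective (Ideal.Quotient.mk J)) m
    have hp : mkJ p ∈ T := by
      rw [p.as_sum_range, map_sum]
      refine T.sum_mem fun i _ => ?_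
      rw [show monomial i (p.coeff i) = p.coeff i • (X : A[X]) ^ i by
        rw [← C_mul_X_pow_eq_monomial, smul_eq_C_mul], map_smul]
      exact T.smul_mem _ (hX i)
    obtain ⟨u, hu, h⟩ := hp
    refine ⟨u, hu, ?_⟩
    have h' := Submodule.mem_map_of_mem (f := S.mkQ) h
    rw [Submodule.map_sup, Submodule.map_smul'', Submodule.map_top, Submodule.range_mkQ,
      show S.map S.mkQ = ⊥ from LinearMap.le_ker_iff_map.mp (Submodule.ker_mkQ S).ge, bot_sup_eq] at h'
    rw [← Submodule.Quotient.mk_smul]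
    exact h'
  obtain ⟨u, huP, hu⟩ := exists_notMem_smul_eq_zero (M ⧸ S) hall
  -- the local generator
  obtain ⟨f, hf, hfe⟩ : mkJ (C u * X ^ e) ∈ S := by
    rw [← smul_eq_C_mul, map_smul]
    exact (Submodule.Quotient.mk_eq_zero S).mp ((Submodule.Quotient.mk_smul _ _ _).trans (hu _))
  let F := C u * X ^ e - f
  have hFJ : F ∈ J := Ideal.Quotient.eq.mp hfe.symm
  have hF : F.degree < (e + 1 : ℕ) := by
    refine (degree_sub_le _ _).trans_lt (max_lt ((degree_C_mul_X_pow_le e u).trans_lt ?_) ?_)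
    · exact_mod_cast Nat.lt_succ_self e
    · exact (mem_degreeLT.mp hf).trans_le (by exact_mod_cast Nat.le_succ e)
  have hFe : F.coeff e = u := by
    simp [F, coeff_eq_zero_of_degree_lt (mem_degreeLT.mp hf)]
  have hlead : u ∈ leadIn J e := (mem_leadIn J).mpr ⟨F, (mem_low J).mpr ⟨hFJ, hF⟩, hFe⟩
  -- pseudo-division by `F`
  have hdiv : ∀ (n : ℕ) (p : A[X]), p.degree < ((n : ℕ) : WithBot ℕ) → ∃ (m : ℕ) (r h : A[X]),
      r.degree < ((e : ℕ) : WithBot ℕ) ∧ C (u ^ m) * p = r + F * h := by
    intro n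
    induction n with
    | zero => exact fun p hp => ⟨0, 0, 0, by simpa using WithBot.bot_lt_coe e, by
        rw [Nat.cast_zero] at hp
        simp [degree_eq_bot.mp (Nat.WithBot.lt_zero_iff.mp hp)]⟩
    | succ n ih =>
      intro p hp
      by_cases hn : n < e
      · exact ⟨0, p, 0, hp.trans_le (by exact_mod_cast hn), by simp⟩
      push Not at hn
      have hlow : (C u * p - C (p.coeff n) * X ^ (n - e) * F).degree < ((n : ℕ) : WithBot ℕ) := by
        rw [degree_lt_iff_coeff_zero]
        intro i hi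
        rw [coeff_sub, coeff_C_mul, mul_assoc, coeff_C_mul, coeff_X_pow_mul', if_pos (by omega)]
        rcases Nat.lt_or_ge n i with hni | hni
        · rw [coeff_eq_zero_of_degree_lt (hp.trans_le (by exact_mod_cast hni)),
            coeff_eq_zero_of_degree_lt (hF.trans_le (by exact_mod_cast (show e + 1 ≤ i - (n - e) by omega)))]
          ring
        · obtain rfl : i = n := le_antisymm hni hi
          rw [show i - (i - e) = e by omega, hFe]
          ring
      obtain ⟨m, r, h, hr, heq⟩ := ih _ hlow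
      refine ⟨m + 1, r, h + C (u ^ m) * (C (p.coeff n) * X ^ (n - e)), hr, ?_⟩
      rw [pow_succ, map_mul]
      linear_combination heq
  have hzero : ∀ (n : ℕ) (h : A[X]), h.degree < ((n : ℕ) : WithBot ℕ) → (F * h).degree < ((e : ℕ) : WithBot ℕ) →
      ∃ m, C (u ^ m) * (F * h) = 0 := by
    intro n
    induction n with
    | zero => exact fun h hh _ => ⟨0, by
        rw [Nat.cast_zero] at hh
        simp [degree_eq_bot.mp (Nat.WithBot.lt_zero_iff.mp hh)]⟩
    | succ n ih =>
      intro h hh hFh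
      have htop : u * h.coeff n = 0 := by
        have h0 : (F * h).coeff (e + n) = 0 :=
          coeff_eq_zero_of_degree_lt (hFh.trans_le (by exact_mod_cast Nat.le_add_right e n))
        rw [coeff_mul, Finset.sum_eq_single (e, n)] at h0
        · rwa [hFe] at h0
        · rintro ⟨i, j⟩ hij hne
          rw [Finset.HasAntidiagonal.mem_antidiagonal] at hij
          rcases Nat.lt_or_ge n j with hj | hj
          · rw [coeff_eq_zero_of_degree_lt (hh.trans_le (by exact_mod_cast hj)), mul_zero]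
          · rw [coeff_eq_zero_of_degree_lt (hF.trans_le (by
              exact_mod_cast (show e + 1 ≤ i by
                by_contra hcon
                exact hne (Prod.ext (by simp only; omega) (by simp only; omega))))), zero_mul]
        · simp
      obtain ⟨m, hm⟩ := ih (C u * h) (by
        rw [degree_lt_iff_coeff_zero]
        intro i hi
        rw [coeff_C_mul]
        rcases Nat.lt_or_ge n i with hni | hni
        · rw [coeff_eq_zero_of_degree_lt (hh.trans_le (by exact_mod_cast hni)), mul_zero]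
        · rw [le_antisymm hni hi, htop]) (by
        rw [mul_left_comm]
        exact (degree_C_mul_le' _ _).trans_lt hFh)
      exact ⟨m + 1, by rw [pow_succ, map_mul]; linear_combination hm⟩
  -- elements of low degree vanish near `P`
  let N := low J e
  haveI : Module.Finite A (degreeLT A e) := Module.Finite.equiv (degreeLTEquiv A e).symm
  haveI : Module.Finite A N := Module.Finite.of_injective (Submodule.inclusion (p := N) (p' := degreeLT A e) inf_le_right)
    (Submodule.inclusion_injective _)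
  have hN : ∀ v : N, ∃ t ∉ P, t • v ∈ P • (⊤ : Submodule A N) := by
    intro v
    have hv := (mem_low J).mp v.2
    obtain ⟨s, hs, hsv⟩ := hflat v.1 hv.1 fun i => by
      by_contra hi
      have hsupp : ((v.1).support.filter fun i => v.1.coeff i ∉ P).Nonempty :=
        ⟨i, Finset.mem_filter.mpr ⟨mem_support_iff.mpr fun h0 => hi (h0 ▸ P.zero_mem), hi⟩⟩
      let i₀ := Finset.max' _ hsupp
      have hi₀ := Finset.mem_filter.mp (Finset.max'_mem _ hsupp)
      have hlt : i₀ < e := by
        by_contra hle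
        exact mem_support_iff.mp hi₀.1 (coeff_eq_zero_of_mem_low v.2 (not_lt.mp hle))
      refine Nat.find_min hex hlt ⟨v.1, hv.1, hi₀.2, fun k hk => ?_⟩
      by_contra hkP
      exact hk.not_ge (Finset.le_max' _ k (Finset.mem_filter.mpr
        ⟨mem_support_iff.mpr fun h0 => hkP (h0 ▸ P.zero_mem), hkP⟩))
    obtain ⟨m, r, h, hr, hrh⟩ : ∃ (m : ℕ) (r : N) (h : A[X]),
        r ∈ P • (⊤ : Submodule A N) ∧ C (u ^ m) * (C s * v.1) = r.1 + F * h := by
      refine Submodule.mul_induction_on hsv (fun p hp j hj => ?_) ?_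
      · have key : ∀ p' : A[X], ∀ a ∈ P, ∃ (m : ℕ) (r : N) (h : A[X]),
            r ∈ P • (⊤ : Submodule A N) ∧ C (u ^ m) * (p' * C a * j) = r.1 + F * h := by
          intro p' a ha
          obtain ⟨m, r, h, hr, heq⟩ := hdiv _ (p' * j)
            (degree_le_natDegree.trans_lt (by exact_mod_cast Nat.lt_succ_self _))
          have hrJ : r ∈ J := by
            rw [← add_sub_cancel_right r (F * h), ← heq]
            exact J.sub_mem (J.mul_mem_left _ (J.mul_mem_left _ hj)) (J.mul_mem_right _ hFJ)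
          exact ⟨m, a • (⟨r, (mem_low J).mpr ⟨hrJ, hr⟩⟩ : N), C a * h, Submodule.smul_mem_smul ha trivial, by
            rw [Submodule.coe_smul, smul_eq_C_mul]; linear_combination C a * heq⟩
        rw [Ideal.map, ← SetLike.mem_coe] at hp
        revert hp
        intro hp
        induction hp using Submodule.span_induction generalizing j with
        | mem q hq =>
          obtain ⟨a, ha, rfl⟩ := hq
          simpa using key 1 a ha
        | zero => exact ⟨0, 0, 0, zero_mem _, by simp⟩
        | add q q' _ _ h h' =>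
          obtain ⟨m, r, h, hr, heq⟩ := h j hj key
          obtain ⟨m', r', h', hr', heq'⟩ := h' j hj key
          refine ⟨m + m', u ^ m' • r + u ^ m • r', C (u ^ m') * h + C (u ^ m) * h',
            add_mem (Submodule.smul_mem _ _ hr) (Submodule.smul_mem _ _ hr'), ?_⟩
          rw [Submodule.coe_add, Submodule.coe_smul, Submodule.coe_smul, smul_eq_C_mul, smul_eq_C_mul, pow_add, map_mul]
          linear_combination C (u ^ m') * heq + C (u ^ m) * heq'
        | smul q q' _ h =>
          obtain ⟨m, r, h, hr, heq⟩ := h (q * j) (J.mul_mem_left _ hj) (fun p' a ha => by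
            obtain ⟨m, r, h, hr, heq⟩ := key (p' * q) a ha
            exact ⟨m, r, h, hr, by linear_combination heq⟩)
          exact ⟨m, r, h, hr, by rw [smul_eq_mul]; linear_combination heq⟩
      · rintro q q' ⟨m, r, h, hr, heq⟩ ⟨m', r', h', hr', heq'⟩
        refine ⟨m + m', u ^ m' • r + u ^ m • r', C (u ^ m') * h + C (u ^ m) * h',
          add_mem (Submodule.smul_mem _ _ hr) (Submodule.smul_mem _ _ hr'), ?_⟩
        rw [Submodule.coe_add, Submodule.coe_smul, Submodule.coe_smul, smul_eq_C_mul, smul_eq_C_mul, pow_add, map_mul]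
        linear_combination C (u ^ m') * heq + C (u ^ m) * heq'
    obtain ⟨m', hm'⟩ := hzero _ h (degree_le_natDegree.trans_lt (by exact_mod_cast Nat.lt_succ_self _)) (by
      rw [show F * h = C (u ^ m) * (C s * v.1) - r.1 by linear_combination -hrh]
      refine (degree_sub_le _ _).trans_lt (max_lt ?_ ((mem_low J).mp r.2).2)
      exact ((degree_C_mul_le' _ _).trans (degree_C_mul_le' _ _)).trans_lt hv.2)
    refine ⟨u ^ m' * (u ^ m * s), (inferInstance : P.IsPrime).mul_notMem
      (fun h' => huP (Ideal.IsPrime.mem_of_pow_mem inferInstance _ h'))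
      ((inferInstance : P.IsPrime).mul_notMem (fun h' => huP (Ideal.IsPrime.mem_of_pow_mem inferInstance _ h')) hs), ?_⟩
    have : (u ^ m' * (u ^ m * s)) • v = u ^ m' • r := by
      refine Subtype.ext ?_
      rw [Submodule.coe_smul, Submodule.coe_smul, smul_eq_C_mul, smul_eq_C_mul, map_mul, map_mul]
      linear_combination C (u ^ m') * hrh + hm'
    rw [this]
    exact Submodule.smul_mem _ _ hr
  obtain ⟨t, htP, ht⟩ := exists_notMem_smul_eq_zero N hN
  intro hle
  refine (inferInstance : P.IsPrime).mul_notMem huP htP (hle (Ideal.mul_mem_mul hlead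
    (Submodule.mem_annihilator.mpr fun v hv => ?_)))
  exact congrArg Subtype.val (ht ⟨v, hv⟩)

end Ideals

variable [IsLocalRing A] [IsNoetherianRing A]

/-- A saturated ideal of polynomials, flat over the punctured spectrum and containing a monic polynomial, is
generated by a monic polynomial. -/
theorem exists_monic_eq_span (hd : (2 : ℕ∞) ≤ LocCoh.depth A A) (J : Ideal A[X]) {G : A[X]} (hG : G.Monic) (hGJ : G ∈ J)
    (hsat : ∀ x : A[X], (∀ P : PrimeSpectrum A, P ≠ IsLocalRing.closedPoint A → ∃ s, s ∉ P.asIdeal ∧ C s * x ∈ J) → x ∈ J)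
    (hflat : ∀ P : PrimeSpectrum A, P ≠ IsLocalRing.closedPoint A → ∀ x ∈ J, (∀ i, x.coeff i ∈ P.asIdeal) →
      ∃ s, s ∉ P.asIdeal ∧ C s * x ∈ (P.asIdeal.map C) * J) :
    ∃ F : A[X], F.Monic ∧ J = Ideal.span {F} := by
  classical
  have hd1 : (1 : ℕ∞) ≤ LocCoh.depth A A := le_trans (by norm_num) hd
  have hloc := fun (P : PrimeSpectrum A) (hP : P ≠ IsLocalRing.closedPoint A) =>
    exists_locus_not_le P.asIdeal hG hGJ (hflat P hP)
  by_cases hne : ∃ P : PrimeSpectrum A, P ≠ IsLocalRing.closedPoint A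
  swap
  · obtain ⟨a, ha, hreg⟩ := exists_regular_mem hd1
    exact absurd (eq_zero_of_forall hd1 1 fun P hP => absurd ⟨P, hP⟩ hne) one_ne_zero
  obtain ⟨P₀, hP₀⟩ := hne
  obtain ⟨e, he⟩ := hloc P₀ hP₀
  have hall : ∀ P : PrimeSpectrum A, P ≠ IsLocalRing.closedPoint A → ¬ locus J e ≤ P.asIdeal := by
    rcases punctured_dichotomy hd (locus J e) (⨆ j : {j : ℕ // j ≠ e}, locus J j.1)
      (fun P _ => by
        by_contra h
        rw [not_or] at h
        refine h.2 (iSup_le fun j => ?_)
        rcases lt_or_gt_of_ne j.2 with hlt | hlt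
        · exact (locus_le_or P.asIdeal hlt).resolve_right h.1
        · exact (locus_le_or P.asIdeal hlt).resolve_left h.1)
      (fun P hP h => by
        obtain ⟨j, hj⟩ := hloc P hP
        by_cases hje : j = e
        · exact hj (hje ▸ h.1)
        · exact hj ((le_iSup (fun j : {j : ℕ // j ≠ e} => locus J j.1) ⟨j, hje⟩).trans h.2)) with h | h
    · exact absurd (h P₀ hP₀) he
    · intro P hP hle
      obtain ⟨j, hj⟩ := hloc P hP
      by_cases hje : j = e
      · exact hj (hje ▸ hle)
      · exact hj ((le_iSup (fun j : {j : ℕ // j ≠ e} => locus J j.1) ⟨j, hje⟩).trans (h P hP))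
  have hlow : ∀ x ∈ low J e, x = 0 := fun x hx => by
    refine Polynomial.ext fun i => eq_zero_of_forall hd1 _ fun P hP => ?_
    obtain ⟨s, hs, hsP⟩ := SetLike.not_le_iff_exists.mp fun h => hall P hP (Ideal.mul_le_right.trans h)
    refine ⟨s, hsP, ?_⟩
    simpa using congrArg (fun q : A[X] => q.coeff i) (Submodule.mem_annihilator.mp hs x hx)
  have hC : ∀ P : PrimeSpectrum A, P ≠ IsLocalRing.closedPoint A → ∃ a ∈ leadIn J e, a ∉ P.asIdeal :=
    fun P hP => SetLike.not_le_iff_exists.mp fun h => hall P hP (Ideal.mul_le_left.trans h)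
  choose ψ hψ hψe using fun a : leadIn J e => (mem_leadIn J).mp a.2
  have huniq : ∀ (a : leadIn J e) (x : A[X]), x ∈ low J (e + 1) → x.coeff e = a → ψ a = x := by
    intro a x hx hxe
    refine sub_eq_zero.mp (hlow _ ((mem_low J).mpr ⟨J.sub_mem ((mem_low J).mp (hψ a)).1 ((mem_low J).mp hx).1, ?_⟩))
    rw [degree_lt_iff_coeff_zero]
    intro i hi
    rcases Nat.lt_or_ge e i with h | h
    · rw [coeff_sub, coeff_eq_zero_of_mem_low (hψ a) h, coeff_eq_zero_of_mem_low hx h, sub_zero]
    · rw [le_antisymm h hi, coeff_sub, hψe, hxe, sub_self]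
  let Ψ : leadIn J e →ₗ[A] A[X] :=
    { toFun := ψ
      map_add' := fun a b => huniq _ _ (add_mem (hψ a) (hψ b)) (by simp [hψe])
      map_smul' := fun r a => huniq _ _ (Submodule.smul_mem _ r (hψ a)) (by simp [hψe]) }
  choose c hc using fun i : ℕ => exists_eq_mul hd (leadIn J e) hC ((lcoeff A i).comp Ψ)
  let f : A[X] := ∑ i ∈ Finset.range e, monomial i (c i)
  let F : A[X] := X ^ e + f
  have hf : f.degree < ((e : ℕ) : WithBot ℕ) := by
    rw [← mem_degreeLT]
    exact Submodule.sum_mem _ fun i hi => mem_degreeLT.mpr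
      ((degree_monomial_le i _).trans_lt (by exact_mod_cast Finset.mem_range.mp hi))
  have hFm : F.Monic := monic_X_pow_add (by exact_mod_cast hf)
  have haF : ∀ a : leadIn J e, C (a : A) * F = ψ a := by
    intro a
    refine Polynomial.ext fun i => ?_
    rw [coeff_C_mul, coeff_add, coeff_X_pow, finsetSum_coeff]
    simp only [coeff_monomial, Finset.sum_ite_eq', Finset.mem_range]
    rcases lt_trichotomy i e with h | h | h
    · rw [if_neg h.ne, if_pos h, zero_add, mul_comm]
      exact (hc i a).symm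
    · rw [if_pos h, if_neg (by omega), add_zero, mul_one, h, hψe]
    · rw [if_neg h.ne', if_neg (by omega), add_zero, mul_zero, coeff_eq_zero_of_mem_low (hψ a) h]
  have hFJ : F ∈ J := hsat F fun P hP => by
    obtain ⟨a, ha, haP⟩ := hC P hP
    exact ⟨a, haP, (haF ⟨a, ha⟩).symm ▸ ((mem_low J).mp (hψ _)).1⟩
  refine ⟨F, hFm, le_antisymm (fun x hx => ?_) ((Ideal.span_singleton_le_iff_mem J).mpr hFJ)⟩
  have hr : x %ₘ F = 0 := hlow _ ((mem_low J).mpr ⟨by
    rw [modByMonic_eq_sub_mul_div]
    exact J.sub_mem hx (J.mul_mem_right _ hFJ), by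
    refine (degree_modByMonic_lt x hFm).trans_eq ?_
    exact degree_add_eq_left_of_degree_lt (by rwa [degree_X_pow]) |>.trans (degree_X_pow e)⟩)
  exact Ideal.mem_span_singleton.mpr ((modByMonic_eq_zero_iff_dvd hFm).mp hr)

end Groth.Agent.H23Para.RS
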