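import Groth.Agent.H23Para.RS.Poly
import Groth.Agent.H23Para.Lift.Punctured
import Groth.Agent.H23Para.Local
import Groth.Agent.H8Props.FlatDepth
import Mathlib.RingTheory.PowerSeries.WeierstrassPreparation
import Mathlib.RingTheory.PowerSeries.Ideal
import Mathlib.RingTheory.MvPowerSeries.Inverse
import Mathlib.RingTheory.Ideal.GoingUp

/-!
# Power series over a complete local ring of depth two are parafactorial
-/

set_option autoImplicit false
set_option linter.style.haveILetI false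

noncomputable section

universe u

open PowerSeries IsLocalRing

namespace Groth.Agent.H23Para.RS

variable {A : Type u} [CommRing A]

theorem mem_map_C_iff {P : Ideal A} [IsNoetherianRing A] {x : A⟦X⟧} :
    x ∈ P.map (C (R := A)) ↔ ∀ n, coeff n x ∈ P := by
  constructor
  · intro hx
    induction hx using Submodule.span_induction with
    | mem y hy =>
      obtain ⟨a, ha, rfl⟩ := hy
      intro n
      rw [coeff_C]
      split_ifs with h
      · exact ha
      · exact P.zero_mem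
    | zero => simp
    | add y z _ _ hy hz => exact fun n => by rw [map_add]; exact P.add_mem (hy n) (hz n)
    | smul r y _ hy =>
      intro n
      rw [smul_eq_mul, coeff_mul]
      exact P.sum_mem fun ij _ => P.mul_mem_left _ (hy ij.2)
  · intro hx
    obtain ⟨m, a, ha⟩ := Submodule.fg_iff_exists_fin_generating_family.mp (IsNoetherian.noetherian P)
    choose c hc using fun n => (Submodule.mem_span_range_iff_exists_fun A).mp (ha.symm ▸ hx n : coeff n x ∈ Submodule.span A (Set.range a))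
    have : x = ∑ i, C (a i) * PowerSeries.mk fun n => c n i := by
      ext n
      rw [← hc n, map_sum]
      exact Finset.sum_congr rfl fun i _ => by rw [coeff_C_mul, coeff_mk, smul_eq_mul, mul_comm]
    rw [this]
    exact Ideal.sum_mem _ fun i _ => Ideal.mul_mem_right _ _ (Ideal.mem_map_of_mem _ (ha ▸ Submodule.subset_span ⟨i, rfl⟩))

theorem isPrime_map_C [IsNoetherianRing A] (P : Ideal A) [P.IsPrime] : (P.map (C (R := A))).IsPrime := by
  have h : P.map (C (R := A)) = RingHom.ker (PowerSeries.map (Ideal.Quotient.mk P)) := by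
    ext x
    rw [mem_map_C_iff, RingHom.mem_ker, PowerSeries.ext_iff]
    simp [coeff_map, Ideal.Quotient.eq_zero_iff_mem]
  rw [h]
  exact RingHom.ker_isPrime _

variable [IsLocalRing A] [IsNoetherianRing A] [IsAdicComplete (maximalIdeal A) A]

theorem exists_div {G : Polynomial A} (hG : G.IsDistinguishedAt (maximalIdeal A)) (x : A⟦X⟧) :
    ∃ (r : Polynomial A) (q : A⟦X⟧), x = (r : A⟦X⟧) + (G : A⟦X⟧) * q := by
  obtain ⟨z, hz⟩ := hG.algEquivQuotient.surjective (Ideal.Quotient.mk _ x)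
  obtain ⟨r, rfl⟩ := Ideal.Quotient.mk_surjective z
  rw [Polynomial.IsDistinguishedAt.algEquivQuotient_apply] at hz
  obtain ⟨q, hq⟩ := Ideal.mem_span_singleton'.mp (Ideal.Quotient.eq.mp hz.symm)
  refine ⟨r, q, ?_⟩
  rw [mul_comm, hq]
  simp

theorem eq_zero_of_coe_eq_mul {G : Polynomial A} (hG : G.IsDistinguishedAt (maximalIdeal A)) {r : Polynomial A}
    (hr : r.degree < G.degree) {q : A⟦X⟧} (h : (r : A⟦X⟧) = (G : A⟦X⟧) * q) : q = 0 ∧ r = 0 := by
  have hres : (G : A⟦X⟧).map (residue A) ≠ 0 := fun h0 => by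
    have := congrArg (PowerSeries.coeff G.natDegree) h0
    rw [coeff_map, Polynomial.coeff_coe, hG.monic.coeff_natDegree, map_one, map_zero] at this
    exact one_ne_zero this
  have hord : G.degree = ((G : A⟦X⟧).map (Ideal.Quotient.mk (maximalIdeal A))).order.toNat := by
    have hd := hG.degree_eq_coe_lift_order_map (G : A⟦X⟧) 1 (by simp) (by simp)
    rw [hd]
    exact congrArg _ (ENat.lift_eq_toNat_of_lt_top _)
  exact (PowerSeries.IsWeierstrassDivisor.of_map_ne_zero hres).eq_zero_of_mul_eq (hord ▸ hr) h.symm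

theorem mul_coe_eq_zero {G : Polynomial A} (hG : G.IsDistinguishedAt (maximalIdeal A)) {q : A⟦X⟧}
    (h : (G : A⟦X⟧) * q = 0) : q = 0 := by
  refine (eq_zero_of_coe_eq_mul hG (r := 0) ?_ (by simp [h])).1
  rw [Polynomial.degree_zero]
  exact Ne.bot_lt fun hb => hG.monic.ne_zero (Polynomial.degree_eq_bot.mp hb)

set_option maxHeartbeats 1000000 in
/-- A saturated ideal of power series, locally principal off the closed point and not contained in `mA[[X]]`,
is generated by a monic polynomial. -/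
theorem exists_eq_span_of_ideal (hd : (2 : ℕ∞) ≤ LocCoh.depth A A) (J : Ideal A⟦X⟧) (g : A⟦X⟧) (hg : g ∈ J)
    (hgm : g.map (residue A) ≠ 0)
    (hsat : ∀ x : A⟦X⟧, (∀ r : PrimeSpectrum A⟦X⟧, r ≠ closedPoint A⟦X⟧ → ∃ s, s ∉ r.asIdeal ∧ s * x ∈ J) → x ∈ J)
    (hlp : ∀ r : PrimeSpectrum A⟦X⟧, r ≠ closedPoint A⟦X⟧ → ∃ f ∈ J, ∀ x ∈ J, ∃ s, s ∉ r.asIdeal ∧ f ∣ s * x) :
    ∃ F : Polynomial A, F.Monic ∧ J = Ideal.span {(F : A⟦X⟧)} ∧ ∀ q : A⟦X⟧, (F : A⟦X⟧) * q = 0 → q = 0 := by
  let G := g.weierstrassDistinguished hgm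
  have hG : G.IsDistinguishedAt (maximalIdeal A) := isDistinguishedAt_weierstrassDistinguished hgm
  have hGJ : (G : A⟦X⟧) ∈ J := by
    rw [← (isUnit_weierstrassUnit hgm).unit.mul_inv_cancel_right (G : A⟦X⟧)]
    refine J.mul_mem_right _ ?_
    rw [IsUnit.unit_spec, ← eq_weierstrassDistinguished_mul_weierstrassUnit hgm]
    exact hg
  let J' : Ideal (Polynomial A) := J.comap Polynomial.coeToPowerSeries.ringHom
  have hmem : ∀ p : Polynomial A, p ∈ J' ↔ (p : A⟦X⟧) ∈ J := fun p => Iff.rfl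
  have hGr : ∀ {P : PrimeSpectrum A} {r : PrimeSpectrum A⟦X⟧}, P.asIdeal = r.asIdeal.comap C →
      P ≠ closedPoint A → r ≠ closedPoint A⟦X⟧ := by
    intro P r hPr hP hr
    refine hP (PrimeSpectrum.ext ?_)
    rw [hPr, hr]
    ext a
    show C a ∈ maximalIdeal A⟦X⟧ ↔ a ∈ maximalIdeal A
    rw [mem_maximalIdeal, mem_maximalIdeal, mem_nonunits_iff, mem_nonunits_iff, isUnit_iff_constantCoeff,
      constantCoeff_C]
  obtain ⟨F, hF, hJ'⟩ := exists_monic_eq_span hd J' hG.monic ((hmem G).mpr hGJ) (fun x hx => by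
      refine (hmem x).mpr (hsat _ fun r hr => ?_)
      by_cases hP : (⟨r.asIdeal.comap C, inferInstance⟩ : PrimeSpectrum A) = closedPoint A
      · by_cases hGm : (G : A⟦X⟧) ∈ r.asIdeal
        · exfalso
          have hm : (maximalIdeal A).map (C (R := A)) ≤ r.asIdeal :=
            Ideal.map_le_iff_le_comap.mpr (congrArg PrimeSpectrum.asIdeal hP).ge
          have hX : (PowerSeries.X : A⟦X⟧) ∈ r.asIdeal := by
            refine r.2.mem_of_pow_mem G.natDegree ?_
            have h1 : (G : A⟦X⟧) - PowerSeries.X ^ G.natDegree ∈ r.asIdeal := hm (mem_map_C_iff.mpr fun n => by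
              rw [map_sub, Polynomial.coeff_coe, coeff_X_pow]
              split_ifs with h
              · rw [h, hG.monic.coeff_natDegree, sub_self]; exact zero_mem _
              · rw [sub_zero]
                rcases Nat.lt_or_ge n G.natDegree with hn | hn
                · exact hG.mem hn
                · rw [Polynomial.coeff_eq_zero_of_natDegree_lt (lt_of_le_of_ne hn (Ne.symm h))]
                  exact zero_mem _)
            simpa using sub_mem hGm h1
          refine hr (PrimeSpectrum.ext (le_antisymm (le_maximalIdeal r.2.ne_top) fun z hz => ?_))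
          have hz0 : constantCoeff z ∈ maximalIdeal A := by
            rw [mem_maximalIdeal, mem_nonunits_iff]
            exact fun h => (mem_maximalIdeal z).mp hz (isUnit_iff_constantCoeff.mpr h)
          rw [eq_X_mul_shift_add_const z]
          exact add_mem (r.asIdeal.mul_mem_right _ hX) (hm (Ideal.mem_map_of_mem _ hz0))
        · exact ⟨_, hGm, J.mul_mem_right _ hGJ⟩
      · obtain ⟨s, hs, hsx⟩ := hx _ hP
        exact ⟨C s, hs, by simpa using (hmem _).mp hsx⟩) (fun P hP x hx hxP => by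
      let PB : Ideal A⟦X⟧ := P.asIdeal.map C
      have hxPB : (x : A⟦X⟧) ∈ PB := mem_map_C_iff.mpr fun n => by rw [Polynomial.coeff_coe]; exact hxP n
      have hGPB : (G : A⟦X⟧) ∉ PB := fun h => (Ideal.ne_top_iff_one _).mp P.2.ne_top (by
        have := mem_map_C_iff.mp h G.natDegree
        rwa [Polynomial.coeff_coe, hG.monic.coeff_natDegree] at this)
      haveI : PB.IsPrime := isPrime_map_C P.asIdeal
      let Ann : Ideal A⟦X⟧ := Submodule.comap (LinearMap.toSpanSingleton A⟦X⟧ A⟦X⟧ (x : A⟦X⟧)) (PB * J)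
      have hAnn : ∀ b, b ∈ Ann ↔ b * (x : A⟦X⟧) ∈ PB * J := fun b => Iff.rfl
      obtain ⟨s, hs, hsP⟩ : ∃ s, C s ∈ Ann ∧ s ∉ P.asIdeal := by
        by_contra hcon
        push Not at hcon
        have hGA : (G : A⟦X⟧) ∈ Ann := (hAnn _).mpr (mul_comm (x : A⟦X⟧) (G : A⟦X⟧) ▸ Ideal.mul_mem_mul hxPB hGJ)
        haveI : Module.Finite A (Polynomial A ⧸ Ideal.span {G}) := hG.monic.finite_quotient
        haveI : Module.Finite A (A⟦X⟧ ⧸ Ideal.span {(G : A⟦X⟧)}) :=
          Module.Finite.equiv hG.algEquivQuotient.toLinearEquiv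
        haveI : Module.Finite A (A⟦X⟧ ⧸ Ann) :=
          Module.Finite.of_surjective
            ((Ideal.Quotient.factorₐ A ((Ideal.span_singleton_le_iff_mem Ann).mpr hGA)).toLinearMap)
            (Ideal.Quotient.factor_surjective ((Ideal.span_singleton_le_iff_mem Ann).mpr hGA))
        haveI : Algebra.IsIntegral A (A⟦X⟧ ⧸ Ann) := Algebra.IsIntegral.of_finite A _
        obtain ⟨Q, -, hQ, hQP⟩ := Ideal.exists_ideal_over_prime_of_isIntegral P.asIdeal (⊥ : Ideal (A⟦X⟧ ⧸ Ann))
          (fun a ha => hcon a (Ideal.Quotient.eq_zero_iff_mem.mp (show Ideal.Quotient.mk Ann (algebraMap A A⟦X⟧ a) = 0 from ha)))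
        let r : PrimeSpectrum A⟦X⟧ := ⟨Q.comap (Ideal.Quotient.mk Ann), inferInstance⟩
        have hPr : P.asIdeal = r.asIdeal.comap C := hQP.symm.trans (by ext a; rfl)
        have hAr : Ann ≤ r.asIdeal := fun b hb => by
          show Ideal.Quotient.mk Ann b ∈ Q
          rw [Ideal.Quotient.eq_zero_iff_mem.mpr hb]
          exact zero_mem _
        by_cases hJr : J ≤ r.asIdeal
        · obtain ⟨f, hf, hdiv⟩ := hlp r (hGr hPr hP)
          obtain ⟨s, hs, b, hb⟩ := hdiv _ ((hmem x).mp hx)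
          obtain ⟨s', hs', b', hb'⟩ := hdiv _ hGJ
          have hPBr : PB ≤ r.asIdeal := Ideal.map_le_iff_le_comap.mpr hPr.le
          have hfPB : f ∉ PB := fun h => by
            rcases (inferInstance : PB.IsPrime).mem_or_mem (hb'.symm ▸ PB.mul_mem_right _ h : s' * (G : A⟦X⟧) ∈ PB) with h | h
            · exact hs' (hPBr h)
            · exact hGPB h
          have hbPB : b ∈ PB := ((inferInstance : PB.IsPrime).mem_or_mem
            (hb ▸ PB.mul_mem_left _ hxPB : f * b ∈ PB)).resolve_left hfPB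
          exact hs (hAr ((hAnn s).mpr (hb ▸ mul_comm b f ▸ Ideal.mul_mem_mul hbPB hf)))
        · obtain ⟨j, hj, hjr⟩ := SetLike.not_le_iff_exists.mp hJr
          exact hjr (hAr ((hAnn j).mpr (mul_comm (x : A⟦X⟧) j ▸ Ideal.mul_mem_mul hxPB hj)))
      have hdec : ∀ z ∈ PB * J, ∃ z' ∈ P.asIdeal.map Polynomial.C * J', ∃ b ∈ PB,
          z = (z' : A⟦X⟧) + (G : A⟦X⟧) * b := by
        intro z hz
        refine Submodule.mul_induction_on hz (fun p hp j hj => ?_) ?_
        · induction hp using Submodule.span_induction generalizing j with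
          | mem q hq =>
            obtain ⟨a, ha, rfl⟩ := hq
            obtain ⟨r, q, hrq⟩ := exists_div hG j
            refine ⟨Polynomial.C a * r, Ideal.mul_mem_mul (Ideal.mem_map_of_mem _ ha) ((hmem r).mpr ?_),
              C a * q, Ideal.mul_mem_right _ _ (Ideal.mem_map_of_mem _ ha), ?_⟩
            · rw [show (r : A⟦X⟧) = j - (G : A⟦X⟧) * q by rw [hrq]; ring]
              exact J.sub_mem hj (J.mul_mem_right _ hGJ)
            · rw [Polynomial.coe_mul, Polynomial.coe_C, hrq]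
              ring
          | zero => exact ⟨0, zero_mem _, 0, zero_mem _, by simp⟩
          | add q q' _ _ h h' =>
            obtain ⟨z₁, h1, b₁, hb₁, e1⟩ := h j hj
            obtain ⟨z₂, h2, b₂, hb₂, e2⟩ := h' j hj
            exact ⟨z₁ + z₂, add_mem h1 h2, b₁ + b₂, add_mem hb₁ hb₂, by
              rw [Polynomial.coe_add, add_mul, e1, e2]; ring⟩
          | smul c q _ h =>
            obtain ⟨z₁, h1, b₁, hb₁, e1⟩ := h (c * j) (J.mul_mem_left _ hj)
            exact ⟨z₁, h1, b₁, hb₁, by rw [smul_eq_mul, ← e1]; ring⟩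
        · rintro q q' ⟨z₁, h1, b₁, hb₁, e1⟩ ⟨z₂, h2, b₂, hb₂, e2⟩
          exact ⟨z₁ + z₂, add_mem h1 h2, b₁ + b₂, add_mem hb₁ hb₂, by rw [Polynomial.coe_add, e1, e2]; ring⟩
      obtain ⟨z', hz', b, hb, hzb⟩ := hdec _ ((hAnn _).mp hs)
      refine ⟨s, hsP, ?_⟩
      let y := Polynomial.C s * x - z'
      have hy : (y : A⟦X⟧) = (G : A⟦X⟧) * b := by
        simp only [y, Polynomial.coe_sub, Polynomial.coe_mul, Polynomial.coe_C]
        rw [hzb]; ring
      have hy' : (y : A⟦X⟧) = ((y %ₘ G : Polynomial A) : A⟦X⟧) + (G : A⟦X⟧) * ((y /ₘ G : Polynomial A) : A⟦X⟧) := by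
        rw [← Polynomial.coe_mul, ← Polynomial.coe_add, Polynomial.modByMonic_add_div y G]
      obtain ⟨hb0, hr0⟩ := eq_zero_of_coe_eq_mul hG (Polynomial.degree_modByMonic_lt y hG.monic)
        (q := b - ((y /ₘ G : Polynomial A) : A⟦X⟧)) (by rw [mul_sub, ← hy, hy']; ring)
      have hCsx : Polynomial.C s * x = z' + (y /ₘ G) * G := by
        have := Polynomial.modByMonic_add_div y G
        rw [hr0, zero_add] at this
        rw [mul_comm (y /ₘ G), this]
        simp [y]
      rw [hCsx]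
      refine add_mem hz' (Ideal.mul_mem_mul (Ideal.mem_map_C_iff.mpr fun n => ?_) ((hmem G).mpr hGJ))
      have := mem_map_C_iff.mp hb n
      rwa [sub_eq_zero.mp hb0, Polynomial.coeff_coe] at this)
  have hFJ : (F : A⟦X⟧) ∈ J := (hmem F).mp (hJ' ▸ Ideal.mem_span_singleton_self F)
  obtain ⟨c, hc⟩ := Ideal.mem_span_singleton'.mp (hJ' ▸ (hmem G).mpr hGJ : G ∈ Ideal.span {F})
  have hGF : (G : A⟦X⟧) = (c : A⟦X⟧) * (F : A⟦X⟧) := by rw [← Polynomial.coe_mul, hc]
  refine ⟨F, hF, le_antisymm (fun x hx => ?_) ((Ideal.span_singleton_le_iff_mem J).mpr hFJ), fun q hq =>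
    mul_coe_eq_zero hG (by rw [hGF, mul_assoc, hq, mul_zero])⟩
  obtain ⟨r, q, hrq⟩ := exists_div hG x
  have hr : r ∈ J' := (hmem r).mpr (by
    rw [show (r : A⟦X⟧) = x - (G : A⟦X⟧) * q by rw [hrq]; ring]
    exact J.sub_mem hx (J.mul_mem_right _ hGJ))
  obtain ⟨c', hc'⟩ := Ideal.mem_span_singleton'.mp (hJ' ▸ hr : r ∈ Ideal.span {F})
  exact Ideal.mem_span_singleton'.mpr ⟨(c' : A⟦X⟧) + (c : A⟦X⟧) * q, by
    rw [hrq, hGF, ← hc', Polynomial.coe_mul]; ring⟩

omit [IsAdicComplete (maximalIdeal A) A] in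
theorem three_le_depth (hd : (2 : ℕ∞) ≤ LocCoh.depth A A) : (3 : ℕ∞) ≤ LocCoh.depth A⟦X⟧ A⟦X⟧ := by
  have hker : RingHom.ker (constantCoeff (R := A)) = Ideal.span {(PowerSeries.X : A⟦X⟧)} := by
    ext z
    rw [RingHom.mem_ker, Ideal.mem_span_singleton, X_dvd_iff]
  let e : (A⟦X⟧ ⧸ Ideal.span {(PowerSeries.X : A⟦X⟧)}) ≃+* A :=
    (Ideal.quotEquivOfEq hker.symm).trans
      (RingHom.quotientKerEquivOfSurjective (f := constantCoeff (R := A)) fun a => ⟨C a, constantCoeff_C a⟩)
  haveI : IsLocalRing (A⟦X⟧ ⧸ Ideal.span {(PowerSeries.X : A⟦X⟧)}) := e.symm.isLocalRing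
  have hXm : (PowerSeries.X : A⟦X⟧) ∈ maximalIdeal A⟦X⟧ := by
    rw [mem_maximalIdeal, mem_nonunits_iff, isUnit_iff_constantCoeff, constantCoeff_X]
    exact not_isUnit_zero
  have hreg : IsSMulRegular A⟦X⟧ (PowerSeries.X : A⟦X⟧) := fun a b h => by
    ext n
    have := congrArg (coeff (n + 1)) (show PowerSeries.X * a = PowerSeries.X * b from h)
    simpa [coeff_succ_X_mul] using this
  rw [← H8Props.FlatDepth.depth_self_quotient_add_one A⟦X⟧ hXm hreg _ rfl, H05EGA4.depth_eq_of_ringEquiv e]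
  exact le_trans (by norm_num) (add_le_add hd le_rfl)

/-- **Ramanujam–Samuel**: power series over a complete local ring of depth two are parafactorial. -/
theorem isParafactorial_powerSeries (hd : (2 : ℕ∞) ≤ LocCoh.depth A A) :
    ParaF.IsParafactorialLocalRing A⟦X⟧ := by
  refine isParafactorialLocalRing_iff.mpr
    ⟨bijective_punctured_iff.mpr (le_trans (by norm_num) (three_le_depth hd)), ?_⟩
  refine Lift.picTrivial_of_functional (R := CommRingCat.of A⟦X⟧) fun M _ hM => ?_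
  haveI : ((maximalIdeal A).map (C (R := A))).IsPrime := isPrime_map_C _
  let P₀ : PrimeSpectrum A⟦X⟧ := ⟨(maximalIdeal A).map C, inferInstance⟩
  have hP₀ : P₀ ≠ closedPoint A⟦X⟧ := fun h => by
    have hX : (PowerSeries.X : A⟦X⟧) ∈ P₀.asIdeal := by
      rw [h]
      show _ ∈ maximalIdeal _
      rw [mem_maximalIdeal, mem_nonunits_iff, isUnit_iff_constantCoeff, constantCoeff_X]
      exact not_isUnit_zero
    have := mem_map_C_iff.mp hX 1
    rw [coeff_one_X] at this
    exact (maximalIdeal.isMaximal A).ne_top ((Ideal.eq_top_iff_one _).mpr this)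
  obtain ⟨y₀, x₀, hx₀, h0⟩ := hM P₀ hP₀
  let I : Ideal A⟦X⟧ := LinearMap.range y₀
  let J : Ideal A⟦X⟧ :=
    { carrier := {x | ∀ r : PrimeSpectrum A⟦X⟧, r ≠ closedPoint A⟦X⟧ → ∃ s, s ∉ r.asIdeal ∧ s * x ∈ I}
      zero_mem' := fun r _ => ⟨1, (Ideal.ne_top_iff_one _).mp r.2.ne_top, by simp⟩
      add_mem' := fun {a b} ha hb r hr => by
        obtain ⟨s, hs, hsa⟩ := ha r hr
        obtain ⟨t, ht, htb⟩ := hb r hr
        exact ⟨s * t, r.2.mul_notMem hs ht, by
          rw [mul_add, mul_right_comm, mul_assoc s t b]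
          exact I.add_mem (I.mul_mem_right _ hsa) (I.mul_mem_left _ htb)⟩
      smul_mem' := fun c a ha r hr => by
        obtain ⟨s, hs, hsa⟩ := ha r hr
        exact ⟨s, hs, by rw [smul_eq_mul, mul_left_comm]; exact I.mul_mem_left _ hsa⟩ }
  have hIJ : ∀ z, y₀ z ∈ J := fun z r _ =>
    ⟨1, (Ideal.ne_top_iff_one _).mp r.2.ne_top, by rw [one_mul]; exact ⟨z, rfl⟩⟩
  obtain ⟨F, hF, hJ, hFreg⟩ := exists_eq_span_of_ideal hd J (y₀ x₀) (hIJ x₀) (fun h => hx₀ (mem_map_C_iff.mpr fun n => by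
      rw [← Ideal.Quotient.eq_zero_iff_mem]
      have := congrArg (coeff n) h
      rwa [coeff_map, map_zero] at this))
    (fun x hx r hr => by
      obtain ⟨s, hs, hsx⟩ := hx r hr
      obtain ⟨t, ht, htsx⟩ := hsx r hr
      exact ⟨t * s, r.2.mul_notMem ht hs, by rwa [mul_assoc]⟩)
    fun r hr => by
      obtain ⟨y, x, hyx, h⟩ := hM r hr
      refine ⟨y₀ x, hIJ x, fun z hz => ?_⟩
      obtain ⟨t, ht, w, hw⟩ := hz r hr
      refine ⟨y x * t, r.2.mul_notMem hyx ht, y w, ?_⟩
      have := congrArg y₀ (h w)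
      rw [map_smul, map_smul, smul_eq_mul, smul_eq_mul, hw] at this
      linear_combination this
  choose y hy using fun z => Ideal.mem_span_singleton'.mp (hJ ▸ hIJ z : y₀ z ∈ Ideal.span {(F : A⟦X⟧)})
  have huniq : ∀ z w, w * (F : A⟦X⟧) = y₀ z → y z = w := fun z w hw =>
    sub_eq_zero.mp (hFreg _ (by rw [mul_sub, mul_comm, hy, mul_comm _ w, hw, sub_self]))
  let Y : M →ₗ[A⟦X⟧] A⟦X⟧ :=
    { toFun := y
      map_add' := fun z w => huniq _ _ (by rw [add_mul, hy, hy, map_add])
      map_smul' := fun c z => huniq _ _ (by rw [RingHom.id_apply, smul_eq_mul, mul_assoc, hy, map_smul, smul_eq_mul]) }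
  refine ⟨Y, fun r hr => ?_⟩
  obtain ⟨s, hs, z, hz⟩ := (hJ ▸ Ideal.mem_span_singleton_self (F : A⟦X⟧) : (F : A⟦X⟧) ∈ J) r hr
  exact ⟨z, fun hmem => hs ((huniq z s hz.symm) ▸ hmem)⟩

end Groth.Agent.H23Para.RS
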